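import Cfsg.Agent.H1.Pair.Sys
import Cfsg.Agent.H7.Signalizer
import Cfsg.Agent.H30.Basic

/-!
# Blocks: a non-central derived element of a block normalises no system outside the block
-/

set_option autoImplicit false
set_option linter.unusedSectionVars false
set_option linter.unusedVariables false

open scoped commutatorElement
open Subgroup H8.PF

namespace H1.PR

universe u

variable {G : Type u} [Group G] [Finite G] {p q : ℕ} {D : Set (Subgroup G)}

/-- The situation in a minimal counterexample. -/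
structure Ctx (p q : ℕ) (D : Set (Subgroup G)) : Prop extends PSys p q D where
  top : sSup D = ⊤
  two_members : ∀ A ∈ D, ∃ B ∈ D, B ≠ A
  zq : IsPGroup q (center G)
  core : ∀ N : Subgroup G, N.Normal → IsPGroup q N → N ≤ center G
  proper : ∀ H : Subgroup G, H ≠ ⊤ → ∀ A ∈ D, A ≤ H →
    ∃ L : Subgroup G, IsSys q A L ∧ A ⊔ L ≤ H ∧ ∀ C ∈ D, C ≤ H → C ≤ A ⊔ L

/-- A block at `A`. -/
structure IsBlock (q : ℕ) (A L : Subgroup G) : Prop where
  sys : IsSys q A L
  maxi : ∀ L' : Subgroup G, IsSys q A L' → L ≤ L' → L' ≤ L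
  noncentral : ¬ ⁅L, L⁆ ≤ center G

theorem centralizer_singleton_ne_top {u : G} (hu : u ∉ center G) :
    centralizer ({u} : Set G) ≠ ⊤ := by
  intro h
  refine hu (mem_center_iff.2 fun g => ?_)
  have h1 : g ∈ centralizer ({u} : Set G) := h ▸ mem_top g
  exact (mem_centralizer_singleton_iff.1 h1)

theorem le_centralizer_singleton {u : G} {L : Subgroup G} (h : ∀ l ∈ L, u * l = l * u) :
    L ≤ centralizer ({u} : Set G) := fun l hl => mem_centralizer_singleton_iff.2 (h l hl).symm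

theorem ne_bot_of_not_le_center {q : ℕ} {A L : Subgroup G} (h : IsBlock q A L) : L ≠ ⊥ := by
  rintro rfl
  exact h.noncentral (by simp)

/-- A proper subgroup of a `q`-group grows in its normaliser. -/
theorem exists_mem_normalizer {q : ℕ} [Fact q.Prime] {I Q : Subgroup G} (hQ : IsPGroup q Q)
    (hIQ : I ≤ Q) (h : ¬ Q ≤ I) : ∃ l ∈ Q, l ∈ normalizer (I : Set G) ∧ l ∉ I := by
  obtain ⟨l, hl, hlI⟩ := SetLike.not_le_iff_exists.1
    (H7.lt_normalizer_inf hQ (lt_of_le_not_ge hIQ h))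
  exact ⟨l, hl.2, hl.1, hlI⟩

namespace Ctx

variable (S : Ctx p q D)
include S

theorem centralizer_member_not_top {A : Subgroup G} (hA : A ∈ D) : ¬ A ≤ center G := by
  intro h
  obtain ⟨B, hB, hBA⟩ := S.two_members A hA
  obtain ⟨a, ha, b, hb, hne⟩ := S.ncomm A hA B hB hBA.symm
  exact hne (mem_center_iff.1 (h ha) b).symm

theorem center_le_normalizer (L : Subgroup G) : center G ≤ normalizer (L : Set G) := by
  intro z hz
  rw [mem_normalizer_iff]
  intro x
  rw [← mem_center_iff.1 hz x, mul_inv_cancel_right]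

theorem normalizer_ne_top {I : Subgroup G} (hI : IsPGroup q I) (hnc : ¬ I ≤ center G) :
    normalizer (I : Set G) ≠ ⊤ := fun h => hnc (S.core I (normalizer_eq_top_iff.1 h) hI)

/-- The system of a proper subgroup contains every system it contains. -/
theorem sys_max {H A L L' : Subgroup G} (hA : A ∈ D) (hL : IsSys q A L) (hle : A ⊔ L ≤ H)
    (hmem : ∀ C ∈ D, C ≤ H → C ≤ A ⊔ L) (hL' : IsSys q A L') (hle' : A ⊔ L' ≤ H) : L' ≤ L :=
  S.le_of_members hA hL hL' fun x hx =>
    hmem _ (S.inv A hA x) ((S.member_le hx).trans hle')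

/-- The system of a proper subgroup is normalised by that subgroup. -/
theorem sys_normal {H A L : Subgroup G} (hA : A ∈ D) (hL : IsSys q A L) (hle : A ⊔ L ≤ H)
    (hmem : ∀ C ∈ D, C ≤ H → C ≤ A ⊔ L) : H ≤ normalizer (L : Set G) := by
  intro h hh
  refine mem_normalizer_of_map_le fun x hx => ?_
  have hhH : cnj h H = H := cnj_eq_of_mem_normalizer (le_normalizer hh)
  have hAh : cnj h A ≤ H := hhH ▸ cnj_mono ((le_sup_left : A ≤ A ⊔ L).trans hle)
  have h1 : cnj h A ≤ A ⊔ L := hmem _ (S.inv A hA h) hAh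
  obtain ⟨hL1, hsup⟩ := S.sys_transfer hA hL (S.inv A hA h) h1
  have h2 : cnj h L ≤ L := by
    refine S.le_of_members (S.inv A hA h) hL1 (S.sys_cnj hL h) fun y hy => ?_
    rw [hsup]
    refine hmem _ (S.inv _ (S.inv A hA h) y) ((S.member_le hy).trans ?_)
    rw [← cnj_sup, ← hhH]
    exact cnj_mono hle
  exact h2 (conj_mem_cnj hx)

theorem exists_block {A X : Subgroup G} (hA : A ∈ D) (hX : IsSys q A X) {u : G}
    (hu : u ∈ ⁅X, X⁆) (huc : u ∉ center G) :
    ∃ L : Subgroup G, IsBlock q A L ∧ X ≤ L ∧ u ∈ ⁅L, L⁆ := by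
  set H := centralizer ({u} : Set G) with hH
  have hAH : A ≤ H := le_centralizer_singleton fun a ha => S.comm_derived_left hA hX hu ha
  have hXH : X ≤ H := le_centralizer_singleton fun l hl => S.comm_derived hA hX hu hl
  obtain ⟨L, hL, hLH, hmem⟩ := S.proper H (centralizer_singleton_ne_top huc) A hA hAH
  have hXL : X ≤ L := S.sys_max hA hL hLH hmem hX (sup_le hAH hXH)
  have huL : u ∈ ⁅L, L⁆ := commutator_mono hXL hXL hu
  refine ⟨L, ⟨hL, fun L' hL' hle => ?_, fun h => huc (h huL)⟩, hXL, huL⟩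
  exact S.sys_max hA hL hLH hmem hL' (sup_le hAH
    (le_centralizer_singleton fun l hl => S.comm_derived hA hL' (commutator_mono hle hle huL) hl))

/-- A block absorbs the systems centralised by one of its non-central derived elements. -/
theorem absorb {A L L' : Subgroup G} (hA : A ∈ D) (hL : IsBlock q A L) {u : G}
    (hu : u ∈ ⁅L, L⁆) (huc : u ∉ center G) (hL' : IsSys q A L')
    (h : ∀ l ∈ L', u * l = l * u) : L' ≤ L := by
  set H := centralizer ({u} : Set G) with hH
  have hAH : A ≤ H := le_centralizer_singleton fun a ha => S.comm_derived_left hA hL.sys hu ha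
  obtain ⟨L1, hL1, hle, hmem⟩ := S.proper H (centralizer_singleton_ne_top huc) A hA hAH
  have h1 : L ≤ L1 := S.sys_max hA hL1 hle hmem hL.sys
    (sup_le hAH (le_centralizer_singleton fun l hl => S.comm_derived hA hL.sys hu hl))
  exact (S.sys_max hA hL1 hle hmem hL' (sup_le hAH (le_centralizer_singleton h))).trans
    (hL.maxi L1 hL1 h1)

/-- Elements fixing `A` and a derived element of a block modulo the centre normalise the block. -/
theorem normalizes {A L : Subgroup G} (hA : A ∈ D) (hL : IsBlock q A L) {u : G}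
    (hu : u ∈ ⁅L, L⁆) (huc : u ∉ center G) {h : G} (hhA : h ∈ centralizer (A : Set G))
    (hhu : h * u * h⁻¹ * u⁻¹ ∈ center G) : h ∈ normalizer (L : Set G) := by
  have hs : IsSys q A (cnj h L) := by
    have := S.sys_cnj hL.sys h
    rwa [cnj_eq_of_commute hhA] at this
  have hle : cnj h L ≤ L := by
    refine S.absorb hA hL hu huc hs fun l hl => ?_
    rw [mem_cnj] at hl
    obtain ⟨z, hzc, hz⟩ : ∃ z ∈ center G, h * u * h⁻¹ = z * u := ⟨_, hhu, by group⟩
    have h1 := S.comm_derived hA hL.sys hu hl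
    have h2 : h * u * h⁻¹ * l = l * (h * u * h⁻¹) := by
      calc h * u * h⁻¹ * l = h * (u * (h⁻¹ * l * h)) * h⁻¹ := by group
        _ = h * ((h⁻¹ * l * h) * u) * h⁻¹ := by rw [h1]
        _ = _ := by group
    have h3 := mem_center_iff.1 hzc
    refine mul_left_cancel (a := z) ?_
    calc z * (u * l) = h * u * h⁻¹ * l := by rw [hz, mul_assoc]
      _ = l * (h * u * h⁻¹) := h2
      _ = l * z * u := by rw [hz, mul_assoc]
      _ = z * (l * u) := by rw [h3 l, mul_assoc]
  exact mem_normalizer_of_map_le fun x hx => hle (conj_mem_cnj hx)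

theorem comm_mem_derived {L : Subgroup G} {g : G} (hg : g ∈ normalizer (L : Set G)) :
    g ∈ normalizer (⁅L, L⁆ : Subgroup G) := by
  refine mem_normalizer_of_map_le fun x hx => ?_
  have h1 : cnj g ⁅L, L⁆ = ⁅L, L⁆ := by
    rw [cnj_commutator, cnj_eq_of_mem_normalizer hg]
  exact h1 ▸ conj_mem_cnj hx

/-- The main lemma: a non-central derived element of a block normalises no system outside it. -/
theorem single {A L X : Subgroup G} (hA : A ∈ D) (hL : IsBlock q A L) {u : G}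
    (hu : u ∈ ⁅L, L⁆) (huc : u ∉ center G) (hX : IsSys q A X)
    (huX : u ∈ normalizer (X : Set G)) : X ≤ L := by
  classical
  have := Fact.mk S.hq
  by_contra hXL
  let good : Subgroup G → Subgroup G → Prop := fun I Y =>
    IsSys q A Y ∧ ¬ Y ≤ L ∧ I ≤ normalizer (Y : Set G)
  let 𝓘 : Set (Subgroup G) := {I | IsPGroup q I ∧ A ≤ normalizer (I : Set G) ∧ u ∈ I ∧
    I ≤ normalizer (L : Set G) ∧ ∃ Y, good I Y}
  have huA : u ∈ centralizer (A : Set G) :=
    S.derived_centralizes hA hL.sys hu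
  have hne : 𝓘.Nonempty := by
    refine ⟨zpowers u, ?_, ?_, mem_zpowers u, ?_, X, hX, hXL, zpowers_le.2 huX⟩
    · exact hL.sys.isp.to_le (zpowers_le.2 (commutator_le_self L hu))
    · intro a ha
      refine mem_normalizer_of_map_le fun x hx => ?_
      obtain ⟨i, rfl⟩ := mem_zpowers_iff.1 hx
      have h1 : Commute a u := mem_centralizer_iff.1 huA a ha
      rw [(h1.zpow_right i).eq, mul_inv_cancel_right]
      exact zpow_mem (mem_zpowers u) i
    · exact zpowers_le.2 (le_normalizer (commutator_le_self L hu))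
  obtain ⟨I, hImax⟩ := 𝓘.toFinite.exists_maximal hne
  obtain ⟨hIq, hAI, huI, hIL, Y0, hY0⟩ := hImax.prop
  obtain ⟨Y, hYmax⟩ := ({Y | good I Y} : Set (Subgroup G)).toFinite.exists_maximal ⟨Y0, hY0⟩
  obtain ⟨hY, hYL, hIY⟩ := hYmax.prop
  -- growth
  have grow : ∀ J : Subgroup G, IsPGroup q J → A ≤ normalizer (J : Set G) →
      I ≤ normalizer (J : Set G) → J ≤ normalizer (L : Set G) → J ≤ normalizer (Y : Set G) →
      J ≤ I := by
    intro J hJ hAJ hIJ hJL hJY
    have hJI : I ⊔ J ∈ 𝓘 := by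
      refine ⟨hIq.to_sup_of_normal_right' hJ hIJ, fun a ha => ?_, mem_sup_left huI,
        sup_le hIL hJL, Y, hY, hYL, sup_le hIY hJY⟩
      refine mem_normalizer_of_map_le fun x hx => ?_
      have h1 : cnj a (I ⊔ J) = I ⊔ J := by
        rw [cnj_sup, cnj_eq_of_mem_normalizer (hAI ha), cnj_eq_of_mem_normalizer (hAJ ha)]
      exact h1 ▸ conj_mem_cnj hx
    exact le_sup_right.trans (hImax.le_of_ge hJI le_sup_left)
  have hZI : center G ≤ I := grow _ S.zq (fun a _ => mem_normalizer_of_map_le fun x hx => by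
      rwa [mem_center_iff.1 hx a, mul_inv_cancel_right])
    (fun a _ => mem_normalizer_of_map_le fun x hx => by
      rwa [mem_center_iff.1 hx a, mul_inv_cancel_right])
    (S.center_le_normalizer L) (S.center_le_normalizer Y)
  set D0 := L ⊓ Y with hD0
  set U := ⁅L, L⁆ with hU
  set U' := ⁅Y, Y⁆ with hU'
  have hIU' : I ≤ normalizer (U' : Set G) := fun g hg => S.comm_mem_derived (hIY hg)
  have hAD0 : A ≤ normalizer (D0 : Set G) := fun a ha => mem_normalizer_of_map_le fun x hx =>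
    ⟨(conj_mem_iff (hL.sys.norm ha) x).2 hx.1, (conj_mem_iff (hY.norm ha) x).2 hx.2⟩
  have hID0 : I ≤ normalizer (D0 : Set G) := fun a ha => mem_normalizer_of_map_le fun x hx =>
    ⟨(conj_mem_iff (hIL ha) x).2 hx.1, (conj_mem_iff (hIY ha) x).2 hx.2⟩
  have hD0I : D0 ≤ I := grow _ (hY.isp.to_le inf_le_right) hAD0 hID0
    (inf_le_left.trans le_normalizer) (inf_le_right.trans le_normalizer)
  have hU'I : U' ⊓ normalizer (L : Set G) ≤ I := by
    refine grow _ (hY.isp.to_le (inf_le_left.trans (commutator_le_self Y))) (fun a ha => ?_)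
      (fun a ha => ?_) inf_le_right
      ((inf_le_left.trans (commutator_le_self Y)).trans le_normalizer)
    · exact mem_normalizer_of_map_le fun x hx =>
        ⟨(conj_mem_iff (S.comm_mem_derived (hY.norm ha)) x).2 hx.1,
          (normalizer (L : Set G)).mul_mem ((normalizer (L : Set G)).mul_mem (hL.sys.norm ha) hx.2)
            ((normalizer (L : Set G)).inv_mem (hL.sys.norm ha))⟩
    · exact mem_normalizer_of_map_le fun x hx =>
        ⟨(conj_mem_iff (hIU' ha) x).2 hx.1,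
          (normalizer (L : Set G)).mul_mem ((normalizer (L : Set G)).mul_mem (hIL ha) hx.2)
            ((normalizer (L : Set G)).inv_mem (hIL ha))⟩
  -- the operators act inside both systems
  have hsupA : ∀ {Q : Subgroup G}, A ≤ normalizer (Q : Set G) →
      A ≤ normalizer ((I ⊔ Q : Subgroup G) : Set G) := by
    intro Q hQ a ha
    refine mem_normalizer_of_map_le fun x hx => ?_
    have h1 : cnj a (I ⊔ Q) = I ⊔ Q := by
      rw [cnj_sup, cnj_eq_of_mem_normalizer (hAI ha), cnj_eq_of_mem_normalizer (hQ ha)]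
    exact h1 ▸ conj_mem_cnj hx
  have hIAL : ⁅I, A⁆ ≤ L := by
    have hs := S.sys_commutator hA (hIq.to_sup_of_normal_right' hL.sys.isp hIL)
      (hsupA hL.sys.norm)
    have h1 : L ≤ ⁅I ⊔ L, A⁆ := by
      conv_lhs => rw [← hL.sys.eq]
      exact commutator_mono le_sup_right le_rfl
    exact (commutator_mono le_sup_left le_rfl).trans (hL.maxi _ hs h1)
  have hIAY : ⁅I, A⁆ ≤ Y := by
    have hs := S.sys_commutator hA (hIq.to_sup_of_normal_right' hY.isp hIY) (hsupA hY.norm)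
    have h1 : Y ≤ ⁅I ⊔ Y, A⁆ := by
      conv_lhs => rw [← hY.eq]
      exact commutator_mono le_sup_right le_rfl
    have h2 : good I ⁅I ⊔ Y, A⁆ :=
      ⟨hs, fun h => hYL (h1.trans h), le_sup_left.trans H1.left_le_normalizer_commutator⟩
    exact (commutator_mono le_sup_left le_rfl).trans (hYmax.le_of_ge h2 h1)
  have hUU' : ∀ w ∈ U, w ∈ U' → w ∈ center G := by
    intro w hw hw'
    by_contra hwc
    exact hYL (S.absorb hA hL hw hwc hY fun l hl => S.comm_derived hA hY hw' hl)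
  set N0 := D0 ⊔ U' with hN0
  have hN0Y : N0 ≤ Y := sup_le inf_le_right (commutator_le_self Y)
  have hmemN0 : ∀ n ∈ N0, ∃ d ∈ D0, ∃ w ∈ U', n = d * w := by
    intro n hn
    have hle : D0 ≤ normalizer (U' : Set G) :=
      inf_le_right.trans H1.left_le_normalizer_commutator
    rw [hN0, ← SetLike.mem_coe, coe_mul_of_left_le_normalizer_right _ _ hle] at hn
    obtain ⟨d, hd, w, hw, rfl⟩ := hn
    exact ⟨d, hd, w, hw, rfl⟩
  have hN0_norm : ∀ g : G, g ∈ normalizer (D0 : Set G) → g ∈ normalizer (U' : Set G) →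
      g ∈ normalizer (N0 : Set G) := by
    intro g h1 h2
    refine mem_normalizer_of_map_le fun x hx => ?_
    have h3 : cnj g N0 = N0 := by
      rw [hN0, cnj_sup, cnj_eq_of_mem_normalizer h1, cnj_eq_of_mem_normalizer h2]
    exact h3 ▸ conj_mem_cnj hx
  have hYN0 : Y ≤ normalizer (N0 : Set G) := by
    intro y hy
    refine mem_normalizer_of_map_le fun n hn => ?_
    rw [show y * n * y⁻¹ = ⁅y, n⁆ * n by simp [commutatorElement_def]]
    exact mul_mem ((le_sup_right : U' ≤ N0) (commutator_mem_commutator hy (hN0Y hn))) hn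
  have hIN0 : I ≤ normalizer (N0 : Set G) := fun g hg => hN0_norm g (hID0 hg) (hIU' hg)
  have hAN0 : A ≤ normalizer (N0 : Set G) := fun g hg =>
    hN0_norm g (hAD0 hg) (S.comm_mem_derived (hY.norm hg))
  have hcop := S.coprime_member hA hY.isp
  have hesc : ∀ x ∈ Y, x ∉ N0 → ∃ a ∈ A, ⁅x, a⁆ ∉ N0 := by
    intro x hx hxN
    by_contra hall
    push Not at hall
    obtain ⟨c, hc, hxc⟩ := H1.exists_fixed_mem_coset_of_le hN0Y hAN0 hcop
      (Or.inl (S.member_solvable hA)) hx (fun a ha => by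
        have h1 := hall a⁻¹ (A.inv_mem ha)
        have h2 : x⁻¹ * (a * x * a⁻¹) = (x⁻¹ * a) * ⁅x, a⁻¹⁆ * (x⁻¹ * a)⁻¹ := by
          simp only [commutatorElement_def]; group
        rw [h2]
        exact (conj_mem_iff (mul_mem (inv_mem (hYN0 hx)) (hAN0 ha)) _).2 h1)
    have hcU : c ∈ N0 := (le_sup_right : U' ≤ N0) (S.fixed_mem_derived hA hY hc.1 hc.2)
    refine hxN ?_
    have h3 := N0.mul_mem hcU (N0.inv_mem hxc)
    simpa [mul_assoc] using h3
  have hYne : ¬ Y ≤ N0 := by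
    intro hle
    refine hYL ?_
    conv_lhs => rw [← hY.eq]
    rw [commutator_le]
    intro n hn a ha
    obtain ⟨d, hd, w, hw, rfl⟩ := hmemN0 n (hle hn)
    rw [show ⁅d * w, a⁆ = ⁅d, a⁆ by
      simp only [commutatorElement_def]
      rw [mul_inv_rev, show d * w * a * (w⁻¹ * d⁻¹) = d * (w * a * w⁻¹) * d⁻¹ by group,
        S.comm_derived_left hA hY hw ha, mul_inv_cancel_right]]
    exact hL.sys.eq ▸ commutator_mem_commutator hd.1 ha
  -- an element of the fixed layer
  obtain ⟨x, hxY, hxN, hxlay⟩ : ∃ x ∈ Y, x ∉ N0 ∧ ∀ h ∈ I, h * x * h⁻¹ * x⁻¹ ∈ N0 := by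
    set P := I ⊔ Y with hP
    have hPq : IsPGroup q P := hIq.to_sup_of_normal_right' hY.isp hIY
    have hPN : P ≤ normalizer (N0 : Set G) := sup_le hIN0 hYN0
    have hn0 : (N0.subgroupOf P).Normal := normal_subgroupOf_of_le_normalizer hPN
    have hYn : (Y.subgroupOf P).Normal :=
      normal_subgroupOf_of_le_normalizer (sup_le hIY le_normalizer)
    set f := QuotientGroup.mk' (N0.subgroupOf P) with hf
    have hCne : (Y.subgroupOf P).map f ≠ ⊥ := by
      rw [Ne, Subgroup.map_eq_bot_iff, QuotientGroup.ker_mk']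
      intro h
      refine hYne fun y hy => ?_
      exact (h (show (⟨y, mem_sup_right hy⟩ : P) ∈ Y.subgroupOf P from hy) : _)
    have hm := H30.inf_center_ne_bot (hPq.to_quotient _)
      (hYn.map f (QuotientGroup.mk'_surjective _)) hCne
    obtain ⟨c, hc, hc1⟩ := (Subgroup.bot_or_exists_ne_one _).resolve_left hm
    obtain ⟨x, hx, rfl⟩ := mem_map.1 hc.1
    refine ⟨(x : G), hx, fun h => hc1 ((QuotientGroup.eq_one_iff x).2 h), fun h hh => ?_⟩
    have h1 := mem_center_iff.1 hc.2 (f ⟨h, mem_sup_left hh⟩)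
    have h2 : f (⟨h, mem_sup_left hh⟩ * x * ⟨h, mem_sup_left hh⟩⁻¹ * x⁻¹) = 1 := by
      rw [map_mul, map_mul, map_mul, map_inv, map_inv, h1, mul_inv_cancel_right, mul_inv_cancel]
    exact mem_subgroupOf.1 ((QuotientGroup.eq_one_iff (N := N0.subgroupOf P) _).1 h2)
  obtain ⟨a, ha, hyN⟩ := hesc x hxY hxN
  set y := ⁅x, a⁆ with hy
  have hyY : y ∈ Y := hY.eq ▸ commutator_mem_commutator hxY ha
  -- commutators of the layer with `D0` lie in `I`
  have claim : ∀ z ∈ Y, (∀ h ∈ I, h * z * h⁻¹ * z⁻¹ ∈ N0) → ∀ d ∈ D0, ⁅z, d⁆ ∈ I := by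
    intro z hz hlay d hd
    have hwU' : ⁅z, d⁆ ∈ U' := commutator_mem_commutator hz hd.2
    refine hU'I ⟨hwU', ?_⟩
    obtain ⟨d', hd', w', hw', hm⟩ := hmemN0 _ (hlay u huI)
    have hud : u * d * u⁻¹ = d := by
      rw [S.comm_derived hA hL.sys hu hd.1, mul_inv_cancel_right]
    have huw : u * ⁅z, d⁆ * u⁻¹ = ⁅d', d⁆ * ⁅z, d⁆ := by
      calc u * ⁅z, d⁆ * u⁻¹
          = ⁅u * z * u⁻¹, u * d * u⁻¹⁆ := by simp only [commutatorElement_def]; group
        _ = ⁅d' * w' * z, d⁆ := by rw [hud, ← hm]; group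
        _ = ⁅d', d⁆ * ⁅z, d⁆ := by
          rw [S.comm_left hA hY (Y.mul_mem hd'.2 (commutator_le_self Y hw')) hz hd.2,
            S.comm_left hA hY hd'.2 (commutator_le_self Y hw') hd.2,
            commutatorElement_eq_one_iff_mul_comm.2 (S.comm_derived hA hY hw' hd.2), mul_one]
    have hzc : ⁅d', d⁆ ∈ center G := hUU' _ (commutator_mem_commutator hd'.1 hd.1)
      (commutator_mem_commutator hd'.2 hd.2)
    refine S.normalizes hA hL hu huc (S.derived_centralizes hA hY hwU') ?_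
    rw [show ⁅z, d⁆ * u * ⁅z, d⁆⁻¹ * u⁻¹ = ⁅z, d⁆ * (u * ⁅z, d⁆ * u⁻¹)⁻¹ by group, huw,
      mul_inv_rev, mul_inv_cancel_left]
    exact inv_mem hzc
  have hylay : ∀ h ∈ I, h * y * h⁻¹ * y⁻¹ ∈ N0 := by
    intro h hh
    have h1 := hxlay h hh
    have hh' : a⁻¹ * h * a ∈ I := by
      have := (conj_mem_iff (hAI (A.inv_mem ha)) h).2 hh
      simpa using this
    have h2 : a * ((a⁻¹ * h * a) * x * (a⁻¹ * h * a)⁻¹ * x⁻¹) * a⁻¹ ∈ N0 :=
      (conj_mem_iff (hAN0 ha) _).2 (hxlay _ hh')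
    have hxi : x * (a * x⁻¹ * a⁻¹) ∈ normalizer (N0 : Set G) := by
      have : x * (a * x⁻¹ * a⁻¹) = y := by simp [hy, commutatorElement_def, mul_assoc]
      rw [this]; exact hYN0 hyY
    rw [show h * y * h⁻¹ * y⁻¹ = (h * x * h⁻¹ * x⁻¹) *
      (x * (a * x⁻¹ * a⁻¹) * (a * ((a⁻¹ * h * a) * x * (a⁻¹ * h * a)⁻¹ * x⁻¹) * a⁻¹)⁻¹ *
        (x * (a * x⁻¹ * a⁻¹))⁻¹) by simp only [hy, commutatorElement_def]; group]
    exact mul_mem h1 ((conj_mem_iff hxi _).2 (inv_mem h2))
  -- `y` normalises `I`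
  have hxd : ∀ d ∈ D0, x * d * x⁻¹ ∈ I := fun d hd => by
    rw [show x * d * x⁻¹ = ⁅x, d⁆ * d by simp [commutatorElement_def]]
    exact mul_mem (claim x hxY hxlay d hd) (hD0I hd)
  have hyd : ∀ d ∈ D0, y * d * y⁻¹ ∈ I := fun d hd => by
    rw [show y * d * y⁻¹ = ⁅y, d⁆ * d by simp [commutatorElement_def]]
    exact mul_mem (claim y hyY hylay d hd) (hD0I hd)
  have hyI : y ∈ normalizer (I : Set G) := by
    refine mem_normalizer_of_map_le fun h hh => ?_
    obtain ⟨l, hl, c, hc, rfl⟩ := S.factor hA hIq hAI hh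
    rw [show y * (l * c) * y⁻¹ = (y * l * y⁻¹) * (y * c * y⁻¹) by group]
    refine mul_mem (hyd l ⟨hIAL hl, hIAY hl⟩) ?_
    have hc' : c⁻¹ ∈ I := inv_mem hc.1
    have hm : x⁻¹ * (c⁻¹ * x * c⁻¹⁻¹ * x⁻¹) * x ∈ N0 := by
      have := (conj_mem_iff (hYN0 (Y.inv_mem hxY)) _).2 (hxlay _ hc')
      simpa using this
    obtain ⟨n, hn, w, hw, hnw⟩ := hmemN0 _ hm
    have hwa : w * a = a * w := S.comm_derived_left hA hY hw ha
    have hna : ⁅n, a⁆ ∈ D0 := by
      rw [show ⁅n, a⁆ = n * (a * n⁻¹ * a⁻¹) by simp [commutatorElement_def, mul_assoc]]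
      exact mul_mem hn ((conj_mem_iff (hAD0 ha) _).2 (inv_mem hn))
    have hca : c⁻¹ * a * c = a := by
      rw [mul_assoc, mem_centralizer_iff.1 hc.2 a ha, inv_mul_cancel_left]
    have h3 : c⁻¹ * x * c = x * n * w := by
      calc c⁻¹ * x * c = x * (x⁻¹ * (c⁻¹ * x * c⁻¹⁻¹ * x⁻¹) * x) := by group
        _ = x * n * w := by rw [hnw, mul_assoc]
    have h4 : c⁻¹ * y * c = x * ⁅n, a⁆ * x⁻¹ * y := by
      calc c⁻¹ * y * c = (c⁻¹ * x * c) * (c⁻¹ * a * c) * (c⁻¹ * x * c)⁻¹ * (c⁻¹ * a * c)⁻¹ := by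
            simp only [hy, commutatorElement_def]; group
        _ = x * n * (w * a * w⁻¹) * n⁻¹ * x⁻¹ * a⁻¹ := by rw [h3, hca]; group
        _ = x * n * a * n⁻¹ * x⁻¹ * a⁻¹ := by rw [hwa, mul_inv_cancel_right]
        _ = _ := by simp only [hy, commutatorElement_def]; group
    have h5 : y * c * y⁻¹ = c * (x * ⁅n, a⁆ * x⁻¹) := by
      calc y * c * y⁻¹ = c * (c⁻¹ * y * c) * y⁻¹ := by group
        _ = _ := by rw [h4]; group
    rw [h5]
    exact mul_mem hc.1 (hxd _ hna)
  -- the system of the normaliser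
  have hInc : ¬ I ≤ center G := fun h => huc (h huI)
  set H := normalizer (I : Set G) with hH
  obtain ⟨L4, hL4, hL4H, hmem⟩ := S.proper H (S.normalizer_ne_top hIq hInc) A hA hAI
  obtain ⟨b, hb, hbN⟩ := hesc y hyY hyN
  have hybL4 : ⁅y, b⁆ ∈ L4 := by
    refine S.qel_mem hA hL4 ?_ (qel_of_mem hY.isp (hY.eq ▸ commutator_mem_commutator hyY hb))
    rw [commutatorElement_def]
    refine mul_mem (hmem _ (S.inv A hA y) ?_ (conj_mem_cnj hb)) (inv_mem (mem_sup_left hb))
    intro z hz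
    rw [mem_cnj] at hz
    rw [show z = y * (y⁻¹ * z * y) * y⁻¹ by group]
    exact mul_mem (mul_mem hyI (hAI hz)) (inv_mem hyI)
  have hL4L : ¬ L4 ≤ L := fun h => hbN ((le_sup_left : D0 ≤ N0)
    ⟨h hybL4, hY.eq ▸ commutator_mem_commutator hyY hb⟩)
  have hHL4 : H ≤ normalizer (L4 : Set G) := S.sys_normal hA hL4 hL4H hmem
  -- grow `I` inside `I L`
  have hP : IsPGroup q (I ⊔ L : Subgroup G) := hIq.to_sup_of_normal_right' hL.sys.isp hIL
  have hLI : ¬ (I ⊔ L) ≤ I := by
    intro hle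
    have h1 : L ≤ Y := by
      conv_lhs => rw [← hL.sys.eq]
      exact (commutator_mono (le_sup_right.trans hle) le_rfl).trans hIAY
    exact hYL (hL.maxi Y hY h1)
  obtain ⟨l, hl, hlH, hlI⟩ := exists_mem_normalizer hP le_sup_left hLI
  have hI2 : H ⊓ (I ⊔ L) ∈ 𝓘 := by
    refine ⟨hP.to_le inf_le_right, fun g hg => ?_, ⟨le_normalizer huI, mem_sup_left huI⟩,
      inf_le_right.trans (sup_le hIL le_normalizer), L4, hL4, hL4L, inf_le_left.trans hHL4⟩
    exact mem_normalizer_of_map_le fun z hz =>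
      ⟨H.mul_mem (H.mul_mem (hAI hg) hz.1) (H.inv_mem (hAI hg)),
        (conj_mem_iff (hsupA hL.sys.norm hg) z).2 hz.2⟩
  exact hlI (hImax.le_of_ge hI2 (le_inf le_normalizer le_sup_left) ⟨hlH, hl⟩)

end Ctx

end H1.PR
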