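import Cfsg.Agent.H1.Pair.Block
import Cfsg.Agent.H16.OddOrder
import Cfsg.Agent.H85.BrauerSuzuki
import Mathlib.GroupTheory.Perm.Cycle.Type

/-!
# Minimal counterexample: the odd core is central; involutions and their fixed members
-/

set_option autoImplicit false
set_option linter.unusedSectionVars false
set_option linter.unusedVariables false

open scoped commutatorElement
open Subgroup H8.PF

namespace H1.PR

universe u

variable {G : Type u} [Group G] [Finite G] {p q : ℕ} {D : Set (Subgroup G)}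

theorem mem_center_of_members (htop : sSup D = ⊤) {x : G}
    (h : ∀ A ∈ D, ∀ a ∈ A, x * a = a * x) : x ∈ center G := by
  have hle : (⊤ : Subgroup G) ≤ centralizer ({x} : Set G) := by
    rw [← htop, sSup_le_iff]
    exact fun A hA a ha => mem_centralizer_singleton_iff.2 (h A hA a ha).symm
  exact mem_center_iff.2 fun g => mem_centralizer_singleton_iff.1 (hle (mem_top g))

theorem conj_inv_eq_of_eq {a b t : G} (h : t * a * t⁻¹ = b) : a = t⁻¹ * b * t := by
  rw [← h]; group

namespace Ctx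

variable (S : Ctx p q D)
include S

theorem normalizes_member_eq {A : Subgroup G} (hA : A ∈ D) {x a : G}
    (hx : cnj x A = A) (ha : a ∈ A) : ∃ m : ℕ, x * a * x⁻¹ = a ^ m ∧ ∀ j : ℕ,
      x ^ j * a * (x ^ j)⁻¹ = a ^ m ^ j := by
  by_cases ha1 : a = 1
  · subst ha1; exact ⟨1, by simp, fun j => by simp⟩
  obtain ⟨m, hm⟩ := S.exists_pow hA ha ha1 (y := x * a * x⁻¹) (hx ▸ conj_mem_cnj ha)
  refine ⟨m, hm.symm, fun j => ?_⟩
  induction j with
  | zero => simp
  | succ j ih =>
    calc x ^ (j + 1) * a * (x ^ (j + 1))⁻¹ = x ^ j * (x * a * x⁻¹) * (x ^ j)⁻¹ := by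
          rw [pow_succ]; group
      _ = (x ^ j * a * (x ^ j)⁻¹) ^ m := by rw [← hm, conj_pow]
      _ = a ^ m ^ (j + 1) := by rw [ih, ← pow_mul, pow_succ]

/-- A normal subgroup of prime power order, the prime different from `q`, is central. -/
theorem rgroup_central {r : ℕ} (hr : r.Prime) (hrq : r ≠ q) {N : Subgroup G} (hN : N.Normal)
    (hNr : IsPGroup r N) : N ≤ center G := by
  have := Fact.mk hr
  have := Fact.mk S.hp
  have := Fact.mk S.hq
  intro x hx
  refine mem_center_of_members S.top fun A hA a ha => ?_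
  have hxa : ⁅x, a⁆ ∈ N := by
    rw [show ⁅x, a⁆ = x * (a * x⁻¹ * a⁻¹) by simp [commutatorElement_def, mul_assoc]]
    exact N.mul_mem hx (hN.conj_mem _ (N.inv_mem hx) a)
  have hfix : cnj x A = A := by
    by_contra hne
    obtain ⟨X, hX, hsup, l, hl, hl2⟩ := S.pair_sys hA (S.inv A hA x) (Ne.symm hne)
    have hXN : X ≤ A ⊔ N := by
      refine (le_sup_right : X ≤ A ⊔ X).trans (hsup ▸ sup_le le_sup_left ?_)
      intro y hy
      rw [mem_cnj] at hy
      rw [show y = x * (x⁻¹ * y * x) * x⁻¹ by group]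
      exact mul_mem (mul_mem (mem_sup_right hx) (mem_sup_left hy)) (inv_mem (mem_sup_right hx))
    have hXbot : X = ⊥ := by
      refine (eq_bot_iff_forall X).2 fun y hy => ?_
      obtain ⟨i, hi⟩ := qel_of_mem hX.isp hy
      by_cases hrp : r = p
      · have hAN : IsPGroup p (A ⊔ N : Subgroup G) :=
          (S.isPGroup_member hA).to_sup_of_normal_right' (hrp ▸ hNr)
            (fun a _ => mem_normalizer_of_map_le fun z hz => hN.conj_mem z hz a)
        obtain ⟨j, hj⟩ := hAN ⟨y, hXN hy⟩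
        have hj' : y ^ p ^ j = 1 := congrArg Subtype.val hj
        exact orderOf_eq_one_iff.1 (Nat.eq_one_of_dvd_coprimes
          (((Nat.coprime_primes S.hq S.hp).2 (Ne.symm S.hne)).pow i j)
          (orderOf_dvd_of_pow_eq_one hi) (orderOf_dvd_of_pow_eq_one hj'))
      · have hy' : y ∈ ((A ⊔ N : Subgroup G) : Set G) := hXN hy
        rw [coe_mul_of_left_le_normalizer_right _ _ (fun a _ => mem_normalizer_of_map_le
          fun z hz => hN.conj_mem z hz a)] at hy'
        obtain ⟨b, hb, n, hn, rfl⟩ := hy'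
        have hmodN : (QuotientGroup.mk (s := N) (b * n) : G ⧸ N) = QuotientGroup.mk b := by
          rw [QuotientGroup.eq]; simpa [mul_assoc] using N.inv_mem hn
        have := hN
        have h1 : (QuotientGroup.mk' N b) ^ q ^ i = 1 := by
          rw [show QuotientGroup.mk' N b = QuotientGroup.mk' N (b * n) from hmodN.symm, ← map_pow]
          have : (b * n) ^ q ^ i = 1 := hi
          rw [this, map_one]
        have h2 : (QuotientGroup.mk' N b) ^ p = 1 := by
          rw [← map_pow, S.pow_p hA hb, map_one]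
        have h3 : QuotientGroup.mk' N b = 1 := orderOf_eq_one_iff.1 (Nat.eq_one_of_dvd_coprimes
          (((Nat.coprime_primes S.hp S.hq).2 S.hne).pow_right i) (orderOf_dvd_of_pow_eq_one h2)
          (orderOf_dvd_of_pow_eq_one h1))
        have hbN : b ∈ N := (QuotientGroup.eq_one_iff b).1 h3
        obtain ⟨j, hj⟩ := hNr ⟨b * n, N.mul_mem hbN hn⟩
        have hj' : (b * n) ^ r ^ j = 1 := congrArg Subtype.val hj
        exact orderOf_eq_one_iff.1 (Nat.eq_one_of_dvd_coprimes
          (((Nat.coprime_primes S.hq hr).2 (Ne.symm hrq)).pow i j)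
          (orderOf_dvd_of_pow_eq_one hi) (orderOf_dvd_of_pow_eq_one hj'))
    subst hXbot
    rw [mem_bot] at hl
    rw [hl, cnj_one] at hl2
    exact hne hl2
  by_cases ha1 : a = 1
  · simp [ha1]
  have h1 : ⁅x, a⁆ ∈ A := by
    rw [commutatorElement_def]
    exact A.mul_mem (hfix ▸ conj_mem_cnj ha) (A.inv_mem ha)
  by_cases hrp : r = p
  · obtain ⟨m, hm, hmj⟩ := S.normalizes_member_eq hA hfix ha
    obtain ⟨j, hj⟩ := hNr ⟨x, hx⟩
    have hj' : x ^ p ^ j = 1 := hrp ▸ congrArg Subtype.val hj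
    have h2 := hmj (p ^ j)
    rw [hj', one_mul, inv_one, mul_one] at h2
    have h4 : a ^ m ^ p ^ j = a ^ 1 := by rw [pow_one]; exact h2.symm
    have h3 : ((m ^ p ^ j : ℕ) : ZMod p) = ((1 : ℕ) : ZMod p) := by
      rw [ZMod.natCast_eq_natCast_iff]
      have h4' := pow_eq_pow_iff_modEq.1 h4
      rwa [S.orderOf_mem hA ha ha1] at h4'
    rw [Nat.cast_pow, ZMod.pow_card_pow, Nat.cast_one] at h3
    have h5 : a ^ m = a := by
      conv_rhs => rw [← pow_one a]
      rw [pow_eq_pow_iff_modEq, S.orderOf_mem hA ha ha1, ← ZMod.natCast_eq_natCast_iff]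
      simpa using h3
    rw [h5] at hm
    exact mul_inv_eq_iff_eq_mul.1 hm
  · have h2 : ⁅x, a⁆ = 1 := by
      obtain ⟨j, hj⟩ := hNr ⟨_, hxa⟩
      have hj' : ⁅x, a⁆ ^ r ^ j = 1 := congrArg Subtype.val hj
      exact orderOf_eq_one_iff.1 (Nat.eq_one_of_dvd_coprimes
        (((Nat.coprime_primes S.hp hr).2 (Ne.symm hrp)).pow_right j)
        (orderOf_dvd_of_pow_eq_one (S.pow_p hA h1)) (orderOf_dvd_of_pow_eq_one hj'))
    exact commutatorElement_eq_one_iff_mul_comm.1 h2

/-- Every normal subgroup of odd order is central. -/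
theorem odd_normal_central (n : ℕ) : ∀ (N : Subgroup G), Nat.card N ≤ n → N.Normal →
    Odd (Nat.card N) → N ≤ center G := by
  induction n with
  | zero => intro N h; exact absurd (Nat.card_pos (α := N)) (by omega)
  | succ n ih =>
    intro N hn hN hodd
    by_cases hb : N = ⊥
    · rw [hb]; exact bot_le
    have := H16.FT.oddOrder (G := N) hodd
    have : Nontrivial N := (nontrivial_iff_ne_bot N).2 hb
    have hlt : ⁅N, N⁆ < N := by
      rw [← map_subtype_commutator]
      conv_rhs => rw [← range_subtype N, MonoidHom.range_eq_map]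
      exact (map_lt_map_iff_of_injective N.subtype_injective).2
        (Group.IsSolvable.commutator_lt_top_of_nontrivial N)
    have hderived : ⁅N, N⁆ ≤ center G := by
      refine ih _ ?_ inferInstance (hodd.of_dvd_nat (card_dvd_of_le hlt.le))
      have := Set.ncard_lt_ncard (SetLike.coe_ssubset_coe.2 hlt) (Set.toFinite _)
      simp only [← Nat.card_coe_set_eq, SetLike.coe_sort_coe] at this
      omega
    have hnil : Group.IsNilpotent N := by
      rw [Subgroup.nilpotent_iff_lowerCentralSeries]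
      refine ⟨2, ?_⟩
      rw [Subgroup.lowerCentralSeries_succ, commutator_eq_bot_iff_le_centralizer]
      intro x hx
      rw [mem_centralizer_iff]
      intro y _
      have h1 : (x : G) ∈ center G := by
        refine hderived ?_
        rw [← map_subtype_commutator]
        refine ⟨x, ?_, rfl⟩
        rw [Subgroup.lowerCentralSeries_succ, Subgroup.lowerCentralSeries_zero] at hx
        exact hx
      exact Subtype.ext (mem_center_iff.1 h1 (y : G))
    rw [← subgroupOf_eq_top, ← index_eq_one]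
    by_contra hne
    obtain ⟨r, hr, hrd⟩ := Nat.exists_prime_and_dvd hne
    have := Fact.mk hr
    obtain ⟨P⟩ := (inferInstance : Nonempty (Sylow r N))
    have hPn : (P : Subgroup N).Normal :=
      Sylow.normal_of_normalizerCondition Group.normalizerCondition_of_isNilpotent P
    have := P.characteristic_of_normal hPn
    have := hN
    have hPG : ((P : Subgroup N).map N.subtype).Normal := inferInstance
    have hPr : IsPGroup r ↥((P : Subgroup N).map N.subtype) := P.2.map _
    have hPc : (P : Subgroup N).map N.subtype ≤ center G := by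
      by_cases hrq : r = q
      · exact S.core _ hPG (hrq ▸ hPr)
      · exact S.rgroup_central hr hrq hPG hPr
    have hle : (P : Subgroup N) ≤ (center G).subgroupOf N := fun x hx =>
      hPc (mem_map_of_mem _ hx)
    exact P.not_dvd_index ((hrd.trans (index_dvd_of_le hle)))

theorem oddCore_central : Cfsg.pPrimeCore 2 G ≤ center G :=
  S.odd_normal_central _ _ le_rfl (H1.pPrimeCore_normal' 2 G)
    (Nat.coprime_two_right.1 (H1.card_pPrimeCore_coprime 2 G))

theorem center_odd : Odd (Nat.card (center G)) := by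
  have := Fact.mk S.hq
  obtain ⟨k, hk⟩ := IsPGroup.iff_card.1 S.zq
  rw [hk]
  exact (S.hq.odd_of_ne_two S.hq2).pow

theorem involution_not_central {t : G} (ht : orderOf t = 2) : t ∉ center G := by
  intro h
  have h1 : orderOf t ∣ Nat.card (center G) := by
    have := _root_.orderOf_dvd_natCard (⟨t, h⟩ : center G)
    rwa [orderOf_mk] at this
  rw [ht] at h1
  exact Nat.not_even_iff_odd.2 S.center_odd (even_iff_two_dvd.2 h1)

theorem inv_eq_self {t : G} (ht : orderOf t = 2) : t⁻¹ = t :=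
  inv_eq_of_mul_eq_one_right (by rw [← pow_two, ← ht, pow_orderOf_eq_one])

theorem mul_self_eq {t : G} (ht : orderOf t = 2) : t * t = 1 := by
  rw [← pow_two, ← ht, pow_orderOf_eq_one]

theorem not_isolated {t : G} (ht : orderOf t = 2) :
    ∃ g : G, Commute t (g * t * g⁻¹) ∧ g * t * g⁻¹ ≠ t := by
  by_contra hne
  push Not at hne
  have hz := H85.zStar (u := t) ⟨ht, hne⟩
  refine S.involution_not_central ht (mem_center_iff.2 fun g => ?_)
  obtain ⟨z, hz, hzg⟩ : ∃ z ∈ center G, t * g * t⁻¹ = z * g :=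
    ⟨_, S.oddCore_central (hz g), by group⟩
  have hzc := mem_center_iff.1 hz
  have h1 : g = z * z * g := by
    calc g = t * (t * g * t⁻¹) * t⁻¹ := by
          rw [S.inv_eq_self ht, ← mul_assoc, ← mul_assoc, S.mul_self_eq ht, one_mul, mul_assoc,
            S.mul_self_eq ht, mul_one]
      _ = t * (g * z) * t⁻¹ := by rw [hzg, ← hzc g]
      _ = (t * g) * (z * t⁻¹) := by group
      _ = (t * g) * (t⁻¹ * z) := by rw [← hzc t⁻¹]
      _ = t * g * t⁻¹ * z := by group
      _ = z * g * z := by rw [hzg]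
      _ = z * z * g := by rw [mul_assoc, hzc g, mul_assoc]
  have h2 : z * z = 1 := right_eq_mul.1 h1
  have h3 : z = 1 := by
    have hd : orderOf z ∣ Nat.card (center G) := by
      have := _root_.orderOf_dvd_natCard (⟨z, hz⟩ : center G)
      rwa [orderOf_mk] at this
    have h4 : orderOf z ∣ 2 := orderOf_dvd_of_pow_eq_one (by rw [pow_two, h2])
    exact orderOf_eq_one_iff.1 (Nat.eq_one_of_dvd_coprimes
      (Nat.coprime_two_right.2 S.center_odd) hd h4)
  rw [h3, one_mul] at hzg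
  exact (mul_inv_eq_iff_eq_mul.1 hzg).symm

theorem fixed_commutes {t : G} (ht : orderOf t = 2) {C : Subgroup G} (hC : C ∈ D)
    (hfix : cnj t C = C) : t ∈ centralizer (C : Set G) := by
  rw [mem_centralizer_iff]
  intro a ha
  by_cases ha1 : a = 1
  · simp [ha1]
  obtain ⟨m, hm, hmj⟩ := S.normalizes_member_eq hC hfix ha
  have h2 := hmj 2
  rw [← ht, pow_orderOf_eq_one, one_mul, inv_one, mul_one, ht] at h2
  have := Fact.mk S.hp
  have h4 : a ^ m ^ 2 = a ^ 1 := by rw [pow_one]; exact h2.symm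
  have h3 : ((m : ZMod p)) * (m : ZMod p) = 1 := by
    have : ((m ^ 2 : ℕ) : ZMod p) = ((1 : ℕ) : ZMod p) := by
      rw [ZMod.natCast_eq_natCast_iff, ← S.orderOf_mem hC ha ha1]
      exact pow_eq_pow_iff_modEq.1 h4
    simpa [pow_two] using this
  rcases mul_self_eq_one_iff.1 h3 with h | h
  · have h5 : a ^ m = a := by
      conv_rhs => rw [← pow_one a]
      rw [pow_eq_pow_iff_modEq, S.orderOf_mem hC ha ha1, ← ZMod.natCast_eq_natCast_iff]
      simpa using h
    rw [h5] at hm
    exact (mul_inv_eq_iff_eq_mul.1 hm).symm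
  · exfalso
    refine S.toPSys.toSys.no_invert S.top hC ha ha1 t ?_
    rw [hm]
    apply eq_inv_of_mul_eq_one_left
    rw [← pow_succ, ← orderOf_dvd_iff_pow_eq_one, S.orderOf_mem hC ha ha1,
      ← ZMod.natCast_eq_zero_iff]
    simp [h]

theorem exists_fixed {t : G} (ht : orderOf t = 2) : ∃ C ∈ D, cnj t C = C := by
  classical
  obtain ⟨A, hA⟩ : ∃ A, A ∈ D := by
    by_contra hne
    push Not at hne
    have : (⊤ : Subgroup G) = ⊥ := by
      rw [← S.top, sSup_eq_bot]
      exact fun A hA => absurd hA (hne A)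
    refine S.involution_not_central ht ?_
    have h1 : t ∈ (⊥ : Subgroup G) := this ▸ mem_top t
    rw [mem_bot] at h1
    rw [h1]; exact one_mem _
  have := Fintype.ofFinite ↥D
  have := Fact.mk Nat.prime_two
  have hodd := S.toPSys.toSys.card_odd hA
  let σ : Equiv.Perm ↥D :=
    { toFun := fun B => ⟨cnj t B, S.inv B B.2 t⟩
      invFun := fun B => ⟨cnj t B, S.inv B B.2 t⟩
      left_inv := fun B => Subtype.ext (by
        show cnj t (cnj t B) = B
        rw [cnj_cnj, S.mul_self_eq ht, cnj_one])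
      right_inv := fun B => Subtype.ext (by
        show cnj t (cnj t B) = B
        rw [cnj_cnj, S.mul_self_eq ht, cnj_one]) }
  have hσ : σ ^ 2 ^ 1 = 1 := by
    rw [pow_one, pow_two]
    exact Equiv.ext fun B => σ.left_inv B
  obtain ⟨B, hB⟩ := Equiv.Perm.exists_fixed_point_of_prime (p := 2) (by
    rw [← Nat.card_eq_fintype_card]
    exact fun h => Nat.not_even_iff_odd.2 hodd (even_iff_two_dvd.2 h)) hσ
  exact ⟨B, B.2, congrArg Subtype.val hB⟩

/-- Two fixed members of a pair fix every member of it. -/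
theorem fixed_of_le {t : G} {C E F : Subgroup G} (hC : t ∈ centralizer (C : Set G))
    (hE : t ∈ centralizer (E : Set G)) (hle : F ≤ C ⊔ E) : t ∈ centralizer (F : Set G) := by
  have h : C ⊔ E ≤ centralizer ({t} : Set G) := sup_le
    (fun c hc => mem_centralizer_singleton_iff.2 (mem_centralizer_iff.1 hC c hc))
    (fun c hc => mem_centralizer_singleton_iff.2 (mem_centralizer_iff.1 hE c hc))
  rw [mem_centralizer_iff]
  exact fun f hf => mem_centralizer_singleton_iff.1 (h (hle hf))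

/-- The invariant line through a moved member. -/
theorem moved_line {t : G} (ht : orderOf t = 2) {E : Subgroup G} (hE : E ∈ D)
    (hmove : cnj t E ≠ E) :
    ∃ C X, C ∈ D ∧ cnj t C = C ∧ IsSys q C X ∧ C ⊔ X = E ⊔ cnj t E ∧
      t ∈ normalizer (X : Set G) ∧ (∃ l ∈ X, E = cnj l C) ∧
      ∀ F ∈ D, F ≤ C ⊔ X → cnj t F = F → F = C := by
  classical
  have := Fact.mk Nat.prime_two
  have := Fact.mk S.hq
  set E' := cnj t E with hE'
  have hE'D : E' ∈ D := S.inv E hE t
  obtain ⟨K, hK⟩ := S.pair E hE E' hE'D (Ne.symm hmove)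
  set W := E ⊔ E' with hW
  have hWt : cnj t W = W := by
    rw [hW, cnj_sup, hE', cnj_cnj, S.mul_self_eq ht, cnj_one, sup_comm]
  -- an odd number of members
  have hodd : Odd (Nat.card {F : Subgroup G // F ∈ D ∧ F ≤ E ⊔ K}) := by
    rw [S.toPSys.toSys.toPre.card_ker_members hE hK]
    obtain ⟨k, hk⟩ := IsPGroup.iff_card.1 hK.isp
    exact (hk ▸ (S.hq.odd_of_ne_two S.hq2).pow : Odd (Nat.card ↥K)).of_dvd_nat
      (index_dvd_card _)
  let α := {F : Subgroup G // F ∈ D ∧ F ≤ E ⊔ K}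
  have := Fintype.ofFinite α
  have hWK : E ⊔ K = W := hK.sup_eq.symm
  have hmap : ∀ F : α, cnj t F.1 ∈ D ∧ cnj t F.1 ≤ E ⊔ K := fun F =>
    ⟨S.inv _ F.2.1 t, by
      calc cnj t F.1 ≤ cnj t W := cnj_mono (F.2.2.trans (le_of_eq hWK))
        _ = E ⊔ K := by rw [hWt, hWK]⟩
  let σ : Equiv.Perm α :=
    { toFun := fun B => ⟨cnj t B, hmap B⟩
      invFun := fun B => ⟨cnj t B, hmap B⟩
      left_inv := fun B => Subtype.ext (by
        show cnj t (cnj t B) = B
        rw [cnj_cnj, S.mul_self_eq ht, cnj_one])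
      right_inv := fun B => Subtype.ext (by
        show cnj t (cnj t B) = B
        rw [cnj_cnj, S.mul_self_eq ht, cnj_one]) }
  have hσ : σ ^ 2 ^ 1 = 1 := by
    rw [pow_one, pow_two]
    exact Equiv.ext fun B => σ.left_inv B
  obtain ⟨⟨C, hCD, hCK⟩, hB⟩ := Equiv.Perm.exists_fixed_point_of_prime (p := 2) (by
    rw [← Nat.card_eq_fintype_card]
    exact fun h => Nat.not_even_iff_odd.2 hodd (even_iff_two_dvd.2 h)) hσ
  have hCfix : cnj t C = C := congrArg Subtype.val hB
  have hCE : C ≠ E := fun h => hmove (by rw [hE', ← h, hCfix])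
  have hCW : C ≤ W := hCK.trans (le_of_eq hWK)
  obtain ⟨X, hX, hsup, l, hl, hlE⟩ := S.pair_sys hCD hE hCE
  have hCX : C ⊔ X = W := hsup ▸ S.pair_closed hE hE'D hCD hE (Ne.symm hmove) hCE hCW le_sup_left
  refine ⟨C, X, hCD, hCfix, hX, hCX, ?_, ⟨l, hl, hlE⟩, ?_⟩
  · refine mem_normalizer_of_map_le fun x hx => S.qel_mem hCD hX ?_ ((qel_of_mem hX.isp hx).conj t)
    rw [hCX, ← hWt]
    exact conj_mem_cnj (hCX ▸ mem_sup_right hx)
  · intro F hF hFle hFfix
    by_contra hne
    have h1 := S.pair_closed hE hE'D hCD hF (Ne.symm hmove) (Ne.symm hne) hCW (hFle.trans hCX.le)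
    have h2 := S.fixed_of_le (S.fixed_commutes ht hCD hCfix) (S.fixed_commutes ht hF hFfix)
      (show E ≤ C ⊔ F from h1 ▸ le_sup_left)
    exact hmove (cnj_eq_of_commute h2)

/-- An involution fixing a single member of a system inverts it modulo the derived subgroup. -/
theorem inverts {t : G} (ht : orderOf t = 2) {C X : Subgroup G} (hC : C ∈ D) (hX : IsSys q C X)
    (htC : t ∈ centralizer (C : Set G)) (htX : t ∈ normalizer (X : Set G))
    (honly : ∀ F ∈ D, F ≤ C ⊔ X → cnj t F = F → F = C) :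
    (∀ k ∈ X, t * k * t⁻¹ * k ∈ ⁅X, X⁆) ∧ ∀ u ∈ ⁅X, X⁆, t * u = u * t := by
  have := Fact.mk S.hq
  have hcop : (Nat.card (zpowers t)).Coprime (Nat.card X) := by
    rw [Nat.card_zpowers, ht]
    obtain ⟨k, hk⟩ := IsPGroup.iff_card.1 hX.isp
    rw [hk]
    exact Nat.coprime_two_left.2 (S.hq.odd_of_ne_two S.hq2).pow
  have htn : t ∈ normalizer (⁅X, X⁆ : Subgroup G) := S.comm_mem_derived htX
  have hfixed : ∀ k ∈ X, k⁻¹ * (t * k * t⁻¹) ∈ ⁅X, X⁆ → k ∈ ⁅X, X⁆ := by
    intro k hk hkf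
    have h1 : ∀ s ∈ zpowers t, k⁻¹ * (s * k * s⁻¹) ∈ ⁅X, X⁆ := by
      intro s hs
      have h2 : zpowers t ≤ zpowers t := le_rfl
      have hs2 : s = 1 ∨ s = t := by
        obtain ⟨i, rfl⟩ := mem_zpowers_iff.1 hs
        rcases Int.even_or_odd i with ⟨j, rfl⟩ | ⟨j, rfl⟩
        · left
          rw [zpow_add, ← (Commute.refl t).mul_zpow, S.mul_self_eq ht, one_zpow]
        · right
          rw [zpow_add, zpow_one, two_mul, zpow_add, ← (Commute.refl t).mul_zpow,
            S.mul_self_eq ht, one_zpow, one_mul]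
      rcases hs2 with rfl | rfl
      · simp
      · exact hkf
    obtain ⟨c, hc, hkc⟩ := H1.exists_fixed_mem_coset_of_le (A := zpowers t) (commutator_le_self X)
      (zpowers_le.2 htn) hcop (Or.inl inferInstance) hk h1
    have hct : t * c = c * t := mem_centralizer_iff.1 hc.2 t (mem_zpowers t)
    have h3 : cnj t (cnj c C) = cnj c C := by
      rw [cnj_cnj, hct, ← cnj_cnj, cnj_eq_of_commute htC]
    have hcC : cnj c C = C := honly _ (S.inv C hC c) (S.member_le hc.1) h3
    have h4 := S.fixed_member_mem_derived hC hX hc.1 hcC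
    have h5 := ⁅X, X⁆.mul_mem h4 (⁅X, X⁆.inv_mem hkc)
    simpa [mul_assoc] using h5
  have hinv : ∀ k ∈ X, t * k * t⁻¹ * k ∈ ⁅X, X⁆ := by
    intro k hk
    have hσ : t * k * t⁻¹ ∈ X := (conj_mem_iff htX k).2 hk
    refine hfixed _ (X.mul_mem hσ hk) ?_
    have h2 : t * (t * k * t⁻¹ * k) * t⁻¹ = k * (t * k * t⁻¹) := by
      calc t * (t * k * t⁻¹ * k) * t⁻¹ = t * t * k * (t⁻¹ * t⁻¹) * (t * k * t⁻¹) := by group
        _ = _ := by rw [S.inv_eq_self ht, S.mul_self_eq ht, one_mul, mul_one]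
    rw [h2, show (t * k * t⁻¹ * k)⁻¹ * (k * (t * k * t⁻¹)) = ⁅k⁻¹, (t * k * t⁻¹)⁻¹⁆ by
      simp only [commutatorElement_def]; group]
    exact commutator_mem_commutator (X.inv_mem hk) (X.inv_mem hσ)
  refine ⟨hinv, fun u hu => ?_⟩
  have hle : ⁅X, X⁆ ≤ centralizer ({t} : Set G) := by
    rw [commutator_le]
    intro x hx y hy
    rw [mem_centralizer_singleton_iff]
    obtain ⟨w, hw, hxw⟩ : ∃ w ∈ ⁅X, X⁆, t * x * t⁻¹ = w * x⁻¹ :=
      ⟨_, hinv x hx, by rw [mul_inv_cancel_right]⟩
    obtain ⟨w', hw', hyw⟩ : ∃ w ∈ ⁅X, X⁆, t * y * t⁻¹ = w * y⁻¹ :=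
      ⟨_, hinv y hy, by rw [mul_inv_cancel_right]⟩
    have hwX := commutator_le_self X hw
    have hw'X := commutator_le_self X hw'
    have e1 : ∀ {w z : G}, w ∈ ⁅X, X⁆ → z ∈ X → ⁅w, z⁆ = 1 := fun hw hz =>
      commutatorElement_eq_one_iff_mul_comm.2 (S.comm_derived hC hX hw hz)
    have e2 : ⁅x⁻¹, w' * y⁻¹⁆ = ⁅x⁻¹, y⁻¹⁆ := by
      have hcw := S.comm_derived hC hX hw' (X.mul_mem (X.inv_mem hx) (X.mul_mem (X.inv_mem
        (X.inv_mem hy)) hx))
      have hcw' := S.comm_derived hC hX hw' (X.inv_mem hx)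
      simp only [commutatorElement_def, mul_inv_rev]
      calc x⁻¹ * (w' * y⁻¹) * x⁻¹⁻¹ * (y⁻¹⁻¹ * w'⁻¹)
          = (x⁻¹ * w') * y⁻¹ * x⁻¹⁻¹ * y⁻¹⁻¹ * w'⁻¹ := by group
        _ = (w' * x⁻¹) * y⁻¹ * x⁻¹⁻¹ * y⁻¹⁻¹ * w'⁻¹ := by rw [← hcw']
        _ = w' * (x⁻¹ * y⁻¹ * x⁻¹⁻¹ * y⁻¹⁻¹) * w'⁻¹ := by group
        _ = _ := by
          rw [S.comm_derived hC hX hw' (X.mul_mem (X.mul_mem (X.mul_mem (X.inv_mem hx)
            (X.inv_mem hy)) (X.inv_mem (X.inv_mem hx))) (X.inv_mem (X.inv_mem hy))),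
            mul_inv_cancel_right]
    have e3 : ⁅x⁻¹, y⁻¹⁆ = ⁅x, y⁆ := by
      have h1 : ⁅x⁻¹, y⁻¹⁆ = (y * x)⁻¹ * ⁅x, y⁆ * (y * x) := by
        simp only [commutatorElement_def]; group
      rw [h1, mul_assoc, S.comm_derived hC hX (commutator_mem_commutator hx hy) (X.mul_mem hy hx),
        inv_mul_cancel_left]
    have h : t * ⁅x, y⁆ * t⁻¹ = ⁅x, y⁆ := by
      rw [show t * ⁅x, y⁆ * t⁻¹ = ⁅t * x * t⁻¹, t * y * t⁻¹⁆ by
        simp only [commutatorElement_def]; group, hxw, hyw,
        S.comm_left hC hX hwX (X.inv_mem hx) (X.mul_mem hw'X (X.inv_mem hy)),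
        e1 hw (X.mul_mem hw'X (X.inv_mem hy)), one_mul, e2, e3]
    exact (mul_inv_eq_iff_eq_mul.1 h).symm
  exact (mem_centralizer_singleton_iff.1 (hle hu)).symm

end Ctx

end H1.PR
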