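import Cfsg.Agent.H1.Pair.Core
import Cfsg.Agent.H20.BlockApps
import Cfsg.Agent.H20.Knorr
import Cfsg.Agent.H22.RegProj

/-!
# A minimal counterexample has odd order
-/

set_option autoImplicit false
set_option linter.unusedSectionVars false
set_option linter.unusedVariables false

open scoped commutatorElement ComplexConjugate
open Subgroup H8.PF

namespace H1.PR

universe u

variable {G : Type u} [Group G] [Finite G] {p q : ℕ} {D : Set (Subgroup G)}

theorem cnj_inv_cnj (g : G) (A : Subgroup G) : cnj g⁻¹ (cnj g A) = A := by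
  rw [cnj_cnj, inv_mul_cancel, cnj_one]

theorem cnj_cnj_inv (g : G) (A : Subgroup G) : cnj g (cnj g⁻¹ A) = A := by
  rw [cnj_cnj, mul_inv_cancel, cnj_one]

theorem le_centralizerPPrimeCore {t : G} {N : Subgroup G}
    (hN : N ≤ centralizer ({t} : Set G))
    (hn : centralizer ({t} : Set G) ≤ normalizer (N : Set G)) (hodd : Odd (Nat.card N)) :
    N ≤ Cfsg.centralizerPPrimeCore 2 t := by
  have : (N.subgroupOf (centralizer ({t} : Set G))).Normal :=
    normal_subgroupOf_of_le_normalizer hn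
  intro x hx
  refine mem_map.2 ⟨⟨x, hN hx⟩, H1.le_pPrimeCore ?_ (mem_subgroupOf.2 hx), rfl⟩
  rw [Nat.card_congr (subgroupOfEquivOfLe hN).toEquiv, Nat.coprime_two_right]
  exact hodd

/-- An invariant line through a moved member, with its single fixed member. -/
structure Line (q : ℕ) (D : Set (Subgroup G)) (t : G) (C X : Subgroup G) : Prop where
  mem : C ∈ D
  fix : cnj t C = C
  sys : IsSys q C X
  norm : t ∈ normalizer (X : Set G)
  only : ∀ F ∈ D, F ≤ C ⊔ X → cnj t F = F → F = C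
  edge : ∃ E ∈ D, E ≤ C ⊔ X ∧ E ≠ C ∧ C ⊔ E = C ⊔ X

/-- A block carrying a non-central derived element of an inverted line. -/
def Good (q : ℕ) (D : Set (Subgroup G)) (t : G) (A M L : Subgroup G) : Prop :=
  IsBlock q A L ∧ M ≤ L ∧ ∃ C X, ∃ u : G, Line q D t C X ∧ X ≤ L ∧
    u ∈ ⁅X, X⁆ ∧ u ∉ center G

namespace Ctx

variable (S : Ctx p q D)
include S

theorem block_transfer {A C L : Subgroup G} (hA : A ∈ D) (hC : C ∈ D) (hL : IsBlock q C L)
    (hle : A ≤ C ⊔ L) : IsBlock q A L := by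
  obtain ⟨hAL, hsup⟩ := S.sys_transfer hC hL.sys hA hle
  refine ⟨hAL, fun L' hL' hLL' => ?_, hL.noncentral⟩
  have h1 : C ≤ A ⊔ L' :=
    le_trans (le_trans le_sup_left (le_of_eq hsup.symm)) (sup_le_sup_left hLL' A)
  exact hL.maxi L' (S.sys_transfer hA hL' hC h1).1 hLL'

theorem block_cnj {C L : Subgroup G} (hL : IsBlock q C L) (g : G) :
    IsBlock q (cnj g C) (cnj g L) := by
  refine ⟨S.sys_cnj hL.sys g, fun L' hL' hle => ?_, fun h => hL.noncentral ?_⟩
  · have h1 : IsSys q C (cnj g⁻¹ L') := by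
      have := S.sys_cnj hL' g⁻¹
      rwa [cnj_inv_cnj] at this
    have h2 : L ≤ cnj g⁻¹ L' := by
      rw [← cnj_inv_cnj g L]; exact cnj_mono hle
    have h3 := cnj_mono (g := g) (hL.maxi _ h1 h2)
    rwa [cnj_cnj_inv] at h3
  · intro u hu
    have h1 : g * u * g⁻¹ ∈ center G := by
      refine h ?_
      rw [← cnj_commutator]
      exact conj_mem_cnj hu
    have h2 := mem_center_iff.1 h1
    refine mem_center_iff.2 fun x => ?_
    have h3 := h2 (g * x * g⁻¹)
    rw [show g * x * g⁻¹ * (g * u * g⁻¹) = g * (x * u) * g⁻¹ by group,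
      show g * u * g⁻¹ * (g * x * g⁻¹) = g * (u * x) * g⁻¹ by group] at h3
    exact mul_left_cancel (mul_right_cancel h3)

/-- Some involution fixes two members. -/
theorem exists_two_fixed {t₀ : G} (ht₀ : orderOf t₀ = 2) :
    ∃ t : G, orderOf t = 2 ∧ ∃ A ∈ D, ∃ C ∈ D, cnj t A = A ∧ cnj t C = C ∧ A ≠ C := by
  by_contra hne
  have hone : ∀ t : G, orderOf t = 2 → ∀ A ∈ D, ∀ C ∈ D, cnj t A = A → cnj t C = C → A = C :=
    fun t ht A hA C hC h1 h2 => by_contra fun h => hne ⟨t, ht, A, hA, C, hC, h1, h2, h⟩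
  obtain ⟨g, hcom, hgt⟩ := S.not_isolated ht₀
  set s := g * t₀ * g⁻¹ with hs
  have hs2 : orderOf s = 2 := by rw [hs, H20.orderOf_conj', ht₀]
  obtain ⟨A, hA, hAt⟩ := S.exists_fixed ht₀
  have hAs : cnj s A = A := hone t₀ ht₀ _ (S.inv A hA s) A hA
    (by rw [cnj_cnj, hcom.eq, ← cnj_cnj, hAt]) hAt
  set r := t₀ * s with hr
  have hr2 : orderOf r = 2 := by
    have := Fact.mk Nat.prime_two
    refine orderOf_eq_prime ?_ fun h => hgt ?_
    · rw [hr, hcom.mul_pow, pow_two, pow_two, S.mul_self_eq ht₀, S.mul_self_eq hs2, one_mul]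
    · rw [eq_inv_of_mul_eq_one_right h, S.inv_eq_self ht₀]
  have hAr : cnj r A = A := by rw [hr, ← cnj_cnj, hAs, hAt]
  obtain ⟨E, hE, hEA⟩ := S.two_members A hA
  have hmove : ∀ {t : G}, orderOf t = 2 → cnj t A = A → cnj t E ≠ E := fun {t} ht h1 h2 =>
    hEA (hone t ht E hE A hA h2 h1)
  have line : ∀ {t : G}, orderOf t = 2 → cnj t A = A → ∃ X : Subgroup G, IsSys q A X ∧
      A ⊔ X = A ⊔ E ∧ t ∈ normalizer (X : Set G) ∧ (∃ l ∈ X, E = cnj l A) ∧
      ∀ F ∈ D, F ≤ A ⊔ X → cnj t F = F → F = A := by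
    intro t ht hAt
    obtain ⟨C, X, hC, hCfix, hX, hsup, htX, hEl, honly⟩ := S.moved_line ht hE (hmove ht hAt)
    obtain rfl := hone t ht C hC A hA hCfix hAt
    obtain ⟨l, hl, hlE⟩ := hEl
    refine ⟨X, hX, ?_, htX, ⟨l, hl, hlE⟩, honly⟩
    rw [hsup]
    exact (S.pair_closed hE (S.inv E hE t) hA hE (Ne.symm (hmove ht hAt)) (Ne.symm hEA)
      (hsup ▸ le_sup_left) le_sup_left).symm
  obtain ⟨X, hX, hXE, htX, ⟨l, hl, hlE⟩, honly⟩ := line ht₀ hAt
  obtain ⟨X', hX', hXE', hsX, -, honly'⟩ := line hs2 hAs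
  have hXX : X = X' := le_antisymm
    (S.le_of_le_sup hA hX' hX.isp (le_sup_right.trans (by rw [hXE, ← hXE'])))
    (S.le_of_le_sup hA hX hX'.isp (le_sup_right.trans (by rw [hXE', ← hXE])))
  subst hXX
  have htA := S.fixed_commutes ht₀ hA hAt
  have hsA := S.fixed_commutes hs2 hA hAs
  obtain ⟨hinv1, -⟩ := S.inverts ht₀ hA hX htA htX honly
  obtain ⟨hinv2, hU2⟩ := S.inverts hs2 hA hX hsA hsX honly'
  obtain ⟨-, hU1⟩ := S.inverts ht₀ hA hX htA htX honly
  obtain ⟨w1, hw1, h1⟩ : ∃ w ∈ ⁅X, X⁆, t₀ * l * t₀⁻¹ = w * l⁻¹ :=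
    ⟨_, hinv1 l hl, by rw [mul_inv_cancel_right]⟩
  obtain ⟨w2, hw2, h2⟩ : ∃ w ∈ ⁅X, X⁆, s * l * s⁻¹ = w * l⁻¹ :=
    ⟨_, hinv2 l hl, by rw [mul_inv_cancel_right]⟩
  have h3 : r * l * r⁻¹ = l * (w2 * w1⁻¹) := by
    calc r * l * r⁻¹ = t₀ * (s * l * s⁻¹) * t₀⁻¹ := by rw [hr]; group
      _ = (t₀ * w2 * t₀⁻¹) * (t₀ * l * t₀⁻¹)⁻¹ := by rw [h2]; group
      _ = w2 * (l * w1⁻¹) := by rw [hU1 w2 hw2, mul_inv_cancel_right, h1, mul_inv_rev, inv_inv]
      _ = l * (w2 * w1⁻¹) := by rw [← mul_assoc, S.comm_derived hA hX hw2 hl, mul_assoc]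
  have hwA : w2 * w1⁻¹ ∈ centralizer (A : Set G) :=
    S.derived_centralizes hA hX (mul_mem hw2 (inv_mem hw1))
  refine hmove hr2 hAr ?_
  rw [hlE, cnj_cnj, show r * l = r * l * r⁻¹ * r by group, ← cnj_cnj, hAr, h3, ← cnj_cnj,
    cnj_eq_of_commute hwA]

theorem exists_line {t : G} (ht : orderOf t = 2) {E : Subgroup G} (hE : E ∈ D)
    (hmove : cnj t E ≠ E) :
    ∃ C X, Line q D t C X ∧ ∃ l ∈ X, E = cnj l C := by
  obtain ⟨C, X, hC, hCfix, hX, hsup, htX, ⟨l, hl, hlE⟩, honly⟩ := S.moved_line ht hE hmove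
  have hEC : E ≠ C := fun h => hmove (h ▸ hCfix)
  refine ⟨C, X, ⟨hC, hCfix, hX, htX, honly, E, hE, hlE ▸ S.member_le hl, hEC, ?_⟩, l, hl, hlE⟩
  rw [hsup]
  exact S.pair_closed hE (S.inv E hE t) hC hE (Ne.symm hmove) (Ne.symm hEC)
    (hsup ▸ le_sup_left) le_sup_left

/-- A minimal counterexample has no involution. -/
theorem even_false {t₀ : G} (ht₀ : orderOf t₀ = 2) : False := by
  classical
  have := Fact.mk S.hq
  have := Fact.mk Nat.prime_two
  obtain ⟨t, ht, A, hA, C₀, hC₀, hAfix, hC₀fix, hAC⟩ := S.exists_two_fixed ht₀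
  set H := centralizer ({t} : Set G) with hH
  have hHtop : H ≠ ⊤ := centralizer_singleton_ne_top (S.involution_not_central ht)
  have memH : ∀ {g : G}, g ∈ H → t * g = g * t := fun hg =>
    (mem_centralizer_singleton_iff.1 hg).symm
  have leH : ∀ {C : Subgroup G}, C ∈ D → cnj t C = C → C ≤ H := fun hC hfix c hc =>
    mem_centralizer_singleton_iff.2 (mem_centralizer_iff.1 (S.fixed_commutes ht hC hfix) c hc)
  have fix_of_le : ∀ {C : Subgroup G}, C ≤ H → cnj t C = C := fun hle =>
    cnj_eq_of_commute (mem_centralizer_iff.2 fun c hc =>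
      mem_centralizer_singleton_iff.1 (hle hc))
  obtain ⟨M, hM, hMH, hmem⟩ := S.proper H hHtop A hA (leH hA hAfix)
  have hHM : H ≤ normalizer (M : Set G) := S.sys_normal hA hM hMH hmem
  have atC : ∀ {C : Subgroup G}, C ∈ D → cnj t C = C →
      C ≤ A ⊔ M ∧ IsSys q C M ∧ C ⊔ M = A ⊔ M := fun hC hfix =>
    have h := hmem _ hC (leH hC hfix)
    ⟨h, S.sys_transfer hA hM hC h⟩
  have hMnc : ¬ M ≤ center G := by
    intro h
    obtain ⟨l, hl, hlC⟩ := S.member_iff hA hM hC₀ (atC hC₀ hC₀fix).1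
    refine hAC ?_
    rw [hlC, cnj_eq_of_commute (center_le_centralizer _ (h hl))]
  -- a line with a non-central derived element gives a good block
  have mkGood : ∀ C X, Line q D t C X → ∀ u ∈ ⁅X, X⁆, u ∉ center G →
      ∃ L, Good q D t A M L ∧ X ≤ L := by
    intro C X hline u hu huc
    obtain ⟨hCle, hMC, hsup⟩ := atC hline.mem hline.fix
    obtain ⟨L, hL, hXL, huL⟩ := S.exists_block hline.mem hline.sys hu huc
    have htu : t * u = u * t := (S.inverts ht hline.mem hline.sys
      (S.fixed_commutes ht hline.mem hline.fix) hline.norm hline.only).2 u hu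
    have huH : u ∈ H := mem_centralizer_singleton_iff.2 htu.symm
    have hML : M ≤ L := S.single hline.mem hL huL huc hMC (hHM huH)
    have hAC' : A ≤ C ⊔ L := (le_sup_left.trans hsup.symm.le).trans (sup_le_sup_left hML C)
    exact ⟨L, ⟨S.block_transfer hA hline.mem hL hAC', hML, C, X, u, hline, hXL, hu, huc⟩, hXL⟩
  have good_t : ∀ {L}, Good q D t A M L →
      t ∈ normalizer (L : Set G) := by
    rintro L ⟨hL, -, C, X, u, hline, hXL, hu, huc⟩
    refine S.normalizes hA hL (commutator_mono hXL hXL hu) huc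
      (S.fixed_commutes ht hA hAfix) ?_
    have htu : t * u = u * t := (S.inverts ht hline.mem hline.sys
      (S.fixed_commutes ht hline.mem hline.fix) hline.norm hline.only).2 u hu
    rw [htu, mul_inv_cancel_right, mul_inv_cancel]
    exact one_mem _
  -- conjugates of `t` by derived elements of good blocks normalise all good blocks
  have jlem : ∀ {L1 L2}, Good q D t A M L1 →
      Good q D t A M L2 → ∀ w ∈ ⁅L1, L1⁆,
      w * t * w⁻¹ ∈ normalizer (L2 : Set G) := by
    rintro L1 L2 ⟨hL1, hML1, -⟩ ⟨hL2, hML2, C, X, u, hline, hXL, hu, huc⟩ w hw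
    set j := w * t * w⁻¹ with hj
    have hj2 : orderOf j = 2 := by rw [hj, H20.orderOf_conj', ht]
    have hwfix : ∀ {F : Subgroup G}, F ∈ D → cnj t F = F → cnj w F = F := by
      intro F hF hfix
      refine cnj_eq_of_commute (mem_centralizer_iff.2 fun f hf => ?_)
      have hle : A ⊔ L1 ≤ centralizer ({w} : Set G) := sup_le
        (le_centralizer_singleton fun a ha => S.comm_derived_left hA hL1.sys hw ha)
        (le_centralizer_singleton fun l hl => S.comm_derived hA hL1.sys hw hl)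
      exact mem_centralizer_singleton_iff.1
        (hle ((atC hF hfix).1.trans (sup_le_sup_left hML1 A) hf))
    have hjA : cnj j A = A := by
      have hw' : cnj w⁻¹ A = A := by
        conv_lhs => rw [← hwfix hA hAfix, cnj_inv_cnj]
      rw [hj, ← cnj_cnj, ← cnj_cnj, hw', hAfix, hwfix hA hAfix]
    have hjfix : ∀ {F : Subgroup G}, F ∈ D → cnj j F = F → cnj t F = F := by
      intro F hF hfix
      have h1 : cnj t (cnj w⁻¹ F) = cnj w⁻¹ F := by
        conv_rhs => rw [← hfix]
        rw [hj, cnj_cnj, cnj_cnj]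
        congr 1
        group
      have h2 := hwfix (S.inv F hF w⁻¹) h1
      rw [cnj_cnj_inv] at h2
      rw [← h2] at h1
      exact h1
    have hjC : cnj j C = C := by
      have hw' : cnj w⁻¹ C = C := by
        conv_lhs => rw [← hwfix hline.mem hline.fix, cnj_inv_cnj]
      rw [hj, ← cnj_cnj, ← cnj_cnj, hw', hline.fix, hwfix hline.mem hline.fix]
    obtain ⟨E, hE, hEle, hEC, hline'⟩ := hline.edge
    have hEmove : cnj j E ≠ E := fun h => hEC (hline.only E hE hEle (hjfix hE h))
    obtain ⟨C', W, hC', hC'fix, -, hsupW, -, -, -⟩ := S.moved_line hj2 hE hEmove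
    have hC'L : C' ≤ A ⊔ L2 := (atC hC' (hjfix hC' hC'fix)).1.trans (sup_le_sup_left hML2 A)
    have hCL : C ≤ A ⊔ L2 := (atC hline.mem hline.fix).1.trans (sup_le_sup_left hML2 A)
    have hEL : E ≤ A ⊔ L2 := hEle.trans (sup_le hCL (hXL.trans le_sup_right))
    have hC'E : C' ≠ E := fun h => hEmove (h ▸ hC'fix)
    have hW := S.pair_closed hE (S.inv E hE j) hC' hE (Ne.symm hEmove) hC'E
      (hsupW ▸ le_sup_left) le_sup_left
    have hjE : cnj j E ≤ A ⊔ L2 :=
      (le_sup_right.trans hW.symm.le).trans (sup_le hC'L hEL)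
    have hjX : cnj j X ≤ L2 := by
      refine S.le_of_le_sup hA hL2.sys (isPGroup_cnj hline.sys.isp j) ?_
      calc cnj j X ≤ cnj j (C ⊔ X) := cnj_mono le_sup_right
        _ = cnj j C ⊔ cnj j E := by rw [← hline', cnj_sup]
        _ ≤ A ⊔ L2 := sup_le (hjC.le.trans hCL) hjE
    have hu2 : j * u * j⁻¹ ∈ ⁅L2, L2⁆ := by
      refine commutator_mono hjX hjX ?_
      rw [← cnj_commutator]
      exact conj_mem_cnj hu
    have hu2c : j * u * j⁻¹ ∉ center G := fun h => huc (by
      have := (inferInstance : (center G).Normal).conj_mem _ h j⁻¹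
      simpa [mul_assoc] using this)
    have hs : IsSys q A (cnj j L2) := by
      have := S.sys_cnj hL2.sys j
      rwa [hjA] at this
    have hle : cnj j L2 ≤ L2 := S.absorb hA hL2 hu2 hu2c hs fun l hl => by
      rw [mem_cnj] at hl
      have h1 := S.comm_derived hA hL2.sys (commutator_mono hXL hXL hu) hl
      calc j * u * j⁻¹ * l = j * (u * (j⁻¹ * l * j)) * j⁻¹ := by group
        _ = j * ((j⁻¹ * l * j) * u) * j⁻¹ := by rw [h1]
        _ = _ := by group
    exact mem_normalizer_of_map_le fun x hx => hle (conj_mem_cnj hx)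
  -- good blocks normalise `M Z` unless they have a non-central inverted derived element
  have hnorm : ∀ {L}, Good q D t A M L →
      (∀ w ∈ ⁅L, L⁆, t * w * t⁻¹ = w⁻¹ → w ∈ center G) →
      L ≤ normalizer ((M ⊔ center G : Subgroup G) : Set G) := by
    intro L hg hcase x hx
    have htL := good_t hg
    obtain ⟨hL, hML, -⟩ := hg
    have key : ∀ m ∈ M, x * m * x⁻¹ ∈ M ⊔ center G := by
      intro m hm
      have hmt : t * m * t⁻¹ = m := by
        rw [memH (hMH (mem_sup_right hm)), mul_inv_cancel_right]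
      have htU := S.comm_mem_derived htL
      set z := ⁅x, m⁆ with hz
      have hzU : z ∈ ⁅L, L⁆ := commutator_mem_commutator hx (hML hm)
      have hσz : t * z * t⁻¹ ∈ ⁅L, L⁆ := (conj_mem_iff htU z).2 hzU
      have hcomm : ∀ {a b : G}, a ∈ ⁅L, L⁆ → b ∈ ⁅L, L⁆ → a * b = b * a := fun ha hb =>
        S.comm_derived hA hL.sys ha (commutator_le_self L hb)
      obtain ⟨w, hw, hzw⟩ : ∃ w ∈ center G, t * z * t⁻¹ = z * w := by
        refine ⟨z⁻¹ * (t * z * t⁻¹), hcase _ (mul_mem (inv_mem hzU) hσz) ?_, by group⟩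
        calc t * (z⁻¹ * (t * z * t⁻¹)) * t⁻¹ = (t * z⁻¹ * t⁻¹) * (t * t * z * (t⁻¹ * t⁻¹)) := by
              group
          _ = (t * z * t⁻¹)⁻¹ * z := by
              rw [S.inv_eq_self ht, S.mul_self_eq ht, one_mul, mul_one]
              group
              simp [S.inv_eq_self ht]
          _ = _ := by rw [mul_inv_rev z⁻¹, inv_inv]
      set v := x * (t * x * t⁻¹) with hv
      have hσx : t * x * t⁻¹ ∈ L := (conj_mem_iff htL x).2 hx
      have hvm : ⁅v, m⁆ = z * (z * w) := by
        rw [hv, S.comm_left hA hL.sys hx hσx (hML hm)]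
        congr 1
        rw [← hzw, hz]
        calc ⁅t * x * t⁻¹, m⁆ = ⁅t * x * t⁻¹, t * m * t⁻¹⁆ := by rw [hmt]
          _ = _ := by simp only [commutatorElement_def]; group
      have hvfix : ∀ s ∈ zpowers t, v⁻¹ * (s * v * s⁻¹) ∈ ⁅L, L⁆ := by
        intro s hs
        have hs' : s = 1 ∨ s = t := by
          obtain ⟨i, rfl⟩ := mem_zpowers_iff.1 hs
          rcases Int.even_or_odd i with ⟨k, rfl⟩ | ⟨k, rfl⟩
          · left
            rw [zpow_add, ← (Commute.refl t).mul_zpow, S.mul_self_eq ht, one_zpow]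
          · right
            rw [zpow_add, zpow_one, two_mul, zpow_add, ← (Commute.refl t).mul_zpow,
              S.mul_self_eq ht, one_zpow, one_mul]
        rcases hs' with rfl | rfl
        · simp
        · have h1 : s * v * s⁻¹ = (s * x * s⁻¹) * x := by
            calc s * v * s⁻¹ = (s * x * s⁻¹) * (s * s * x * (s⁻¹ * s⁻¹)) := by rw [hv]; group
              _ = _ := by rw [S.inv_eq_self ht, S.mul_self_eq ht, one_mul, mul_one]
          rw [h1, hv, show (x * (s * x * s⁻¹))⁻¹ * (s * x * s⁻¹ * x) =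
            ⁅(s * x * s⁻¹)⁻¹, x⁻¹⁆ by simp only [commutatorElement_def]; group]
          exact commutator_mem_commutator (inv_mem hσx) (inv_mem hx)
      have hcop : (Nat.card (zpowers t)).Coprime (Nat.card L) := by
        rw [Nat.card_zpowers, ht]
        obtain ⟨k, hk⟩ := IsPGroup.iff_card.1 hL.sys.isp
        rw [hk]
        exact Nat.coprime_two_left.2 (S.hq.odd_of_ne_two S.hq2).pow
      obtain ⟨c, hc, hvc⟩ := H1.exists_fixed_mem_coset_of_le (A := zpowers t)
        (commutator_le_self L) (zpowers_le.2 htU) hcop (Or.inl inferInstance)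
        (L.mul_mem hx hσx) hvfix
      have hFfix : cnj t (cnj c A) = cnj c A := by
        rw [cnj_cnj, mem_centralizer_iff.1 hc.2 t (mem_zpowers t), ← cnj_cnj, hAfix]
      obtain ⟨m', hm', hm'c⟩ := S.member_iff hA hM (S.inv A hA c) (atC (S.inv A hA c) hFfix).1
      have hU' : m'⁻¹ * c ∈ ⁅L, L⁆ := by
        refine S.fixed_member_mem_derived hA hL.sys (mul_mem (inv_mem (hML hm')) hc.1) ?_
        rw [← cnj_cnj, hm'c, cnj_inv_cnj]
      have hone : ∀ {a : G}, a ∈ ⁅L, L⁆ → ⁅a, m⁆ = 1 := fun ha =>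
        commutatorElement_eq_one_iff_mul_comm.2 (S.comm_derived hA hL.sys ha (hML hm))
      have h1 : ⁅c, m⁆ = ⁅v, m⁆ := by
        rw [show c = v * (v⁻¹ * c) by group, S.comm_left hA hL.sys (L.mul_mem hx hσx)
          (commutator_le_self L hvc) (hML hm), hone hvc, mul_one]
      have h2 : ⁅c, m⁆ = ⁅m', m⁆ := by
        rw [show c = m' * (m'⁻¹ * c) by group, S.comm_left hA hL.sys (hML hm')
          (commutator_le_self L hU') (hML hm), hone hU', mul_one]
      have hz2 : z * z ∈ M ⊔ center G := by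
        rw [show z * z = ⁅v, m⁆ * w⁻¹ by rw [hvm]; group, ← h1, h2]
        exact mul_mem (mem_sup_left (commutator_le_self M (commutator_mem_commutator hm' hm)))
          (inv_mem (mem_sup_right hw))
      have hzodd : Odd (orderOf z) := by
        obtain ⟨k, hk⟩ := qel_of_mem hL.sys.isp (commutator_le_self L hzU)
        exact (S.hq.odd_of_ne_two S.hq2).pow.of_dvd_nat (orderOf_dvd_of_pow_eq_one hk)
      have hz1 : z ∈ M ⊔ center G := H85.mem_of_sq_mem_of_odd hzodd hz2
      rw [show x * m * x⁻¹ = z * m by simp [hz, commutatorElement_def]]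
      exact mul_mem hz1 (mem_sup_left hm)
    refine mem_normalizer_of_map_le fun y hy => ?_
    have hle : cnj x (M ⊔ center G) ≤ M ⊔ center G := by
      rw [cnj_sup]
      refine sup_le ?_ ?_
      · intro a ha
        rw [mem_cnj] at ha
        have := key _ ha
        rwa [show x * (x⁻¹ * a * x) * x⁻¹ = a by group] at this
      · rw [cnj_eq_of_mem_normalizer (mem_normalizer_of_map_le fun a ha =>
          (inferInstance : (center G).Normal).conj_mem a ha x)]
        exact le_sup_right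
    exact hle (conj_mem_cnj hy)
  -- good blocks are equal
  have uniq : ∀ {L1 L2}, Good q D t A M L1 →
      Good q D t A M L2 → L1 = L2 := by
    have half : ∀ {L1 L2}, Good q D t A M L1 →
        Good q D t A M L2 → ∀ w ∈ ⁅L1, L1⁆,
        t * w * t⁻¹ = w⁻¹ → w ∉ center G → L1 = L2 := by
      intro L1 L2 h1 h2 w hw hinv hwc
      have hw2 : w ∈ normalizer (L2 : Set G) := by
        have h3 := mul_mem (good_t h2) (jlem h1 h2 w hw)
        have h4 : t * (w * t * w⁻¹) = w⁻¹ * w⁻¹ := by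
          calc t * (w * t * w⁻¹) = t * w * t⁻¹ * (t * t) * w⁻¹ := by group
            _ = _ := by rw [S.mul_self_eq ht, mul_one, hinv]
        rw [h4] at h3
        have hodd : Odd (orderOf w⁻¹) := by
          rw [orderOf_inv]
          obtain ⟨k, hk⟩ := qel_of_mem h1.1.sys.isp (commutator_le_self L1 hw)
          exact (S.hq.odd_of_ne_two S.hq2).pow.of_dvd_nat (orderOf_dvd_of_pow_eq_one hk)
        exact inv_mem_iff.1 (H85.mem_of_sq_mem_of_odd hodd h3)
      have h5 : L2 ≤ L1 := S.single hA h1.1 hw hwc h2.1.sys hw2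
      exact le_antisymm (h2.1.maxi L1 h1.1.sys h5) h5
    intro L1 L2 h1 h2
    by_cases c1 : ∀ w ∈ ⁅L1, L1⁆, t * w * t⁻¹ = w⁻¹ → w ∈ center G
    · by_cases c2 : ∀ w ∈ ⁅L2, L2⁆, t * w * t⁻¹ = w⁻¹ → w ∈ center G
      · set N := M ⊔ center G with hN
        have hNq : IsPGroup q N := hM.isp.to_sup_of_normal_right' S.zq
          (fun a _ => mem_normalizer_of_map_le fun x hx =>
            (inferInstance : (center G).Normal).conj_mem x hx a)
        have hAN : A ≤ normalizer (N : Set G) := fun a ha => by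
          refine mem_normalizer_of_map_le fun x hx => ?_
          have h3 : cnj a N = N := by
            rw [hN, cnj_sup, cnj_eq_of_mem_normalizer (hM.norm ha),
              cnj_eq_of_mem_normalizer (mem_normalizer_of_map_le fun a' ha' =>
                (inferInstance : (center G).Normal).conj_mem a' ha' a)]
          exact h3 ▸ conj_mem_cnj hx
        obtain ⟨L4, hL4, hL4H, hmem4⟩ := S.proper _
          (S.normalizer_ne_top hNq fun h => hMnc (le_sup_left.trans h)) A hA hAN
        have e1 := S.sys_max hA hL4 hL4H hmem4 h1.1.sys (sup_le hAN (hnorm h1 c1))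
        have e2 := S.sys_max hA hL4 hL4H hmem4 h2.1.sys (sup_le hAN (hnorm h2 c2))
        exact le_antisymm (e1.trans (h2.1.maxi L4 hL4 e2)) (e2.trans (h1.1.maxi L4 hL4 e1))
      · push Not at c2
        obtain ⟨w, hw, hinv, hwc⟩ := c2
        exact (half h2 h1 w hw hinv hwc).symm
    · push Not at c1
      obtain ⟨w, hw, hinv, hwc⟩ := c1
      exact half h1 h2 w hw hinv hwc
  -- the centraliser of `t` normalises a good block
  have hHgood : ∀ {L}, Good q D t A M L →
      H ≤ normalizer (L : Set G) := by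
    intro L hg g hg'
    obtain ⟨hL, hML, C, X, u, hline, hXL, hu, huc⟩ := id hg
    have htg : t * g = g * t := memH hg'
    have hfixg : ∀ {F : Subgroup G}, cnj t F = F → cnj t (cnj g F) = cnj g F := fun hF => by
      rw [cnj_cnj, htg, ← cnj_cnj, hF]
    have hMg : cnj g M = M := cnj_eq_of_mem_normalizer (hHM hg')
    have hMgL : M ≤ cnj g L := by
      have := cnj_mono (g := g) hML
      rwa [hMg] at this
    have hAle : A ≤ cnj g A ⊔ cnj g L := by
      have h1 := (atC (S.inv A hA g) (hfixg hAfix)).2.2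
      exact (le_sup_left.trans h1.symm.le).trans (sup_le_sup_left hMgL _)
    have hblock := S.block_transfer hA (S.inv A hA g) (S.block_cnj hL g) hAle
    have hline' : Line q D t (cnj g C) (cnj g X) := by
      obtain ⟨E, hE, hEle, hEC, hEsup⟩ := hline.edge
      refine ⟨S.inv C hline.mem g, hfixg hline.fix, S.sys_cnj hline.sys g,
        mem_normalizer_of_map_le fun x hx => ?_, fun F hF hle hfix => ?_,
        cnj g E, S.inv E hE g, by rw [← cnj_sup]; exact cnj_mono hEle, fun h => hEC ?_,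
        by rw [← cnj_sup, ← cnj_sup, hEsup]⟩
      · have h1 : cnj t (cnj g X) = cnj g X := by
          rw [cnj_cnj, htg, ← cnj_cnj, cnj_eq_of_mem_normalizer hline.norm]
        exact h1 ▸ conj_mem_cnj hx
      · have h1 : cnj t (cnj g⁻¹ F) = cnj g⁻¹ F := by
          have h0 : t * g⁻¹ = g⁻¹ * t := (Commute.inv_right (show Commute t g from htg)).eq
          rw [cnj_cnj, h0, ← cnj_cnj, hfix]
        have h2 : cnj g⁻¹ F ≤ C ⊔ X := by
          have := cnj_mono (g := g⁻¹) hle
          rwa [← cnj_sup, cnj_inv_cnj] at this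
        rw [← hline.only _ (S.inv F hF g⁻¹) h2 h1, cnj_cnj_inv]
      · rw [← cnj_inv_cnj g E, h, cnj_inv_cnj]
    have hg2 : Good q D t A M (cnj g L) :=
      ⟨hblock, hMgL, cnj g C, cnj g X, g * u * g⁻¹, hline', cnj_mono hXL,
        (cnj_commutator g X X) ▸ conj_mem_cnj hu, fun h => huc (by
          have := (inferInstance : (center G).Normal).conj_mem _ h g⁻¹
          simpa [mul_assoc] using this)⟩
    have := uniq hg hg2
    exact mem_normalizer_of_map_le fun x hx => this.symm ▸ conj_mem_cnj hx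
  -- the odd core of the centraliser
  set O := Cfsg.centralizerPPrimeCore 2 t with hO
  have qodd : ∀ {N : Subgroup G}, IsPGroup q N → Odd (Nat.card N) := fun hN => by
    obtain ⟨k, hk⟩ := IsPGroup.iff_card.1 hN
    exact hk ▸ (S.hq.odd_of_ne_two S.hq2).pow
  have hAMO : A ⊔ M ≤ O := by
    refine le_centralizerPPrimeCore hMH (fun g hg => mem_normalizer_of_map_le fun x hx => ?_) ?_
    · have h1 : cnj g (A ⊔ M) = A ⊔ M := by
        have hfix : cnj t (cnj g A) = cnj g A := by
          rw [cnj_cnj, memH hg, ← cnj_cnj, hAfix]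
        rw [cnj_sup, cnj_eq_of_mem_normalizer (hHM hg), (atC (S.inv A hA g) hfix).2.2]
      exact h1 ▸ conj_mem_cnj hx
    · rw [S.card_sup hA (S.isKer hM)]
      exact (qodd hM.isp).mul (S.hp.odd_of_ne_two S.hp2)
  have hXO : ∀ C X, Line q D t C X → ⁅X, X⁆ ≤ O := by
    intro C X hline
    have hcomm : ∀ u ∈ ⁅X, X⁆, t * u = u * t := (S.inverts ht hline.mem hline.sys
      (S.fixed_commutes ht hline.mem hline.fix) hline.norm hline.only).2
    by_cases hc : ⁅X, X⁆ ≤ center G
    · refine hc.trans (le_centralizerPPrimeCore (center_le_centralizer _) ?_ (qodd S.zq))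
      exact fun g _ => mem_normalizer_of_map_le fun x hx =>
        (inferInstance : (center G).Normal).conj_mem x hx g
    · obtain ⟨u, hu, huc⟩ := SetLike.not_le_iff_exists.1 hc
      obtain ⟨L, hg, hXL⟩ := mkGood C X hline u hu huc
      have hUH : ⁅L, L⁆ ⊓ H ≤ O := by
        refine le_centralizerPPrimeCore inf_le_right (fun g hg' => ?_)
          (qodd (hg.1.sys.isp.to_le (inf_le_left.trans (commutator_le_self L))))
        exact mem_normalizer_of_map_le fun x hx =>
          ⟨(conj_mem_iff (S.comm_mem_derived (hHgood hg hg')) x).2 hx.1,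
            H.mul_mem (H.mul_mem hg' hx.2) (H.inv_mem hg')⟩
      exact fun v hv => hUH ⟨commutator_mono hXL hXL hv,
        mem_centralizer_singleton_iff.2 (hcomm v hv).symm⟩
  -- products of a member element and `t`
  obtain ⟨a, ha, ha1⟩ := S.exists_ne_one hA
  have key : ∀ g : G, ∃ r : G, ∃ o ∈ O, g * a * g⁻¹ * t = r * (t * o) * r⁻¹ := by
    intro g
    have hE := S.inv A hA g
    have hb : g * a * g⁻¹ ∈ cnj g A := conj_mem_cnj ha
    by_cases hfix : cnj t (cnj g A) = cnj g A
    · refine ⟨1, g * a * g⁻¹, hAMO ((atC hE hfix).1 hb), ?_⟩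
      rw [mem_centralizer_iff.1 (S.fixed_commutes ht hE hfix) _ hb]
      group
    · obtain ⟨C, X, hline, l, hl, hlE⟩ := S.exists_line ht hE hfix
      set b := g * a * g⁻¹ with hbdef
      set c := l⁻¹ * b * l with hcdef
      have hcC : c ∈ C := by
        have h1 : b ∈ cnj l C := hlE ▸ hb
        rwa [mem_cnj] at h1
      have hC := hline.mem
      have hX := hline.sys
      have htC := S.fixed_commutes ht hC hline.fix
      have hct : c * t = t * c := mem_centralizer_iff.1 htC c hcC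
      obtain ⟨hinv, hUt⟩ := S.inverts ht hC hX htC hline.norm hline.only
      set U := ⁅X, X⁆ with hU
      set N := U.subgroupOf X with hN
      have hcX : c ∈ normalizer (X : Set G) := hX.norm hcC
      have hσ : ∀ {x : G}, x ∈ X → c * x * c⁻¹ ∈ X := fun hx => (conj_mem_iff hcX _).2 hx
      have hUc : ∀ {w : G}, w ∈ U → c * w * c⁻¹ = w := fun hw => by
        rw [← S.comm_derived_left hC hX hw hcC, mul_inv_cancel_right]
      have hker : ∀ d ∈ X, d * (c * d * c⁻¹) ∈ U → d ∈ U := by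
        intro d hd h
        have h2 : Commute (c * c) d := by
          show c * c * d = d * (c * c)
          have e1 := S.comm_derived hC hX h hd
          have e2 : d * (c * d * c⁻¹) = c * d * c⁻¹ * d :=
            mul_left_cancel (a := d) (e1.symm.trans (mul_assoc d (c * d * c⁻¹) d))
          calc c * c * d = (c * d * c⁻¹)⁻¹ * (c * (d * (c * d * c⁻¹)) * c⁻¹) * (c * c) := by group
            _ = d * (c * c) := by rw [hUc h, e2, inv_mul_cancel_left]
        obtain ⟨k, hk⟩ := S.hp.odd_of_ne_two S.hp2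
        have hck : (c * c) ^ (k + 1) = c := by
          have h5 : c ^ p = 1 := S.pow_p hC hcC
          rw [← pow_two, ← pow_mul, show 2 * (k + 1) = p + 1 by omega, pow_succ, h5, one_mul]
        have h3 := h2.pow_left (k + 1)
        rw [hck] at h3
        have h7 : d * d ∈ U := by
          rwa [h3.eq, mul_inv_cancel_right] at h
        have hdodd : Odd (orderOf d) := by
          obtain ⟨k, hk⟩ := qel_of_mem hX.isp hd
          exact (S.hq.odd_of_ne_two S.hq2).pow.of_dvd_nat (orderOf_dvd_of_pow_eq_one hk)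
        exact H85.mem_of_sq_mem_of_odd hdodd h7
      let F : X ⧸ N → X ⧸ N := fun x =>
        QuotientGroup.mk (x.out * ⟨c * x.out * c⁻¹, hσ x.out.2⟩ : X)
      have hF : Function.Injective F := by
        intro x y hxy
        have h1 : ((x.out : G) * (c * x.out * c⁻¹))⁻¹ * ((y.out : G) * (c * y.out * c⁻¹)) ∈ U :=
          mem_subgroupOf.1 (QuotientGroup.eq.1 hxy)
        set d : G := (x.out : G)⁻¹ * y.out with hd
        have hdX : d ∈ X := X.mul_mem (X.inv_mem x.out.2) y.out.2
        have hcm : ⁅(c * (x.out : G) * c⁻¹)⁻¹, d⁆ ∈ U :=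
          commutator_mem_commutator (X.inv_mem (hσ x.out.2)) hdX
        have h2 := U.mul_mem (U.inv_mem hcm) h1
        rw [show ⁅(c * (x.out : G) * c⁻¹)⁻¹, d⁆⁻¹ *
          (((x.out : G) * (c * x.out * c⁻¹))⁻¹ * ((y.out : G) * (c * y.out * c⁻¹))) =
          d * (c * d * c⁻¹) by simp only [hd, commutatorElement_def]; group] at h2
        have h3 : x.out⁻¹ * y.out ∈ N := mem_subgroupOf.2 (hker d hdX h2)
        rw [← QuotientGroup.out_eq' x, ← QuotientGroup.out_eq' y]
        exact QuotientGroup.eq.2 h3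
      have hkX : l * (c * l * c⁻¹)⁻¹ ∈ X := X.mul_mem hl (X.inv_mem (hσ hl))
      obtain ⟨x, hx⟩ := Finite.surjective_of_injective hF (QuotientGroup.mk ⟨_, hkX⟩)
      set r : G := (x.out : G) with hr
      have hrX : r ∈ X := x.out.2
      obtain ⟨u1, hu1, hku⟩ : ∃ u1 ∈ U, l * (c * l * c⁻¹)⁻¹ = r * (c * r * c⁻¹) * u1 :=
        ⟨_, mem_subgroupOf.1 (QuotientGroup.eq.1 hx), by
          show _ = r * (c * r * c⁻¹) * ((r * (c * r * c⁻¹))⁻¹ * (l * (c * l * c⁻¹)⁻¹))
          group⟩
      obtain ⟨w, hw, hwr⟩ : ∃ w ∈ U, t * r⁻¹ * t⁻¹ = r * w := by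
        refine ⟨r⁻¹ * (t * r⁻¹ * t⁻¹), ?_, by group⟩
        have h1 := hinv r⁻¹ (X.inv_mem hrX)
        have h2 : r⁻¹ * (t * r⁻¹ * t⁻¹) = r⁻¹ * (t * r⁻¹ * t⁻¹ * r⁻¹) * r := by group
        rw [h2, mul_assoc, S.comm_derived hC hX h1 hrX, inv_mul_cancel_left]
        exact h1
      refine ⟨r, w⁻¹ * u1 * c, mul_mem (hXO C X hline (mul_mem (inv_mem hw) hu1))
        (hAMO ((atC hC hline.fix).1 hcC)), ?_⟩
      have hw0 : w⁻¹ * u1 ∈ U := mul_mem (inv_mem hw) hu1
      have hb2 : b = l * (c * l * c⁻¹)⁻¹ * c := by rw [hcdef]; group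
      have hsw : t * (w⁻¹ * u1) = (w⁻¹ * u1) * t := hUt _ hw0
      calc b * t = r * (c * r * c⁻¹) * u1 * c * t := by rw [hb2, hku]
        _ = r * (c * r * c⁻¹) * ((w⁻¹ * u1) * w) * c * t := by
            rw [S.comm_derived hC hX hw0 (commutator_le_self X hw), mul_inv_cancel_left]
        _ = (r * (c * r * c⁻¹)) * (w⁻¹ * u1) * (c * (c⁻¹ * w * c) * t) := by group
        _ = (w⁻¹ * u1) * (r * (c * r * c⁻¹)) * (c * w * t) := by
            rw [← S.comm_derived hC hX hw0 (X.mul_mem hrX (hσ hrX))]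
            congr 3
            calc c⁻¹ * w * c = c⁻¹ * (c * w * c⁻¹) * c := by rw [hUc hw]
              _ = w := by group
        _ = (w⁻¹ * u1) * r * c * (r * w) * t := by group
        _ = (w⁻¹ * u1) * r * c * (t * r⁻¹) := by rw [← hwr]; group
        _ = r * ((w⁻¹ * u1) * c * t) * r⁻¹ := by
            rw [S.comm_derived hC hX hw0 hrX]; group
        _ = r * (t * (w⁻¹ * u1 * c)) * r⁻¹ := by
            congr 2
            rw [mul_assoc _ c t, hct, ← mul_assoc, ← hsw, mul_assoc]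
  -- characters
  have := Fintype.ofFinite G
  obtain ⟨I, hI⟩ := H20.exists_isPModular Nat.prime_two
  have := hI.2.1
  have hval : ∀ χ ∈ Cfsg.principalBlock I G, (χ : G → ℂ) t ≠ 0 → χ = H12.oneIrr G := by
    intro χ hχ hne
    have hχ1 : (χ : G → ℂ) 1 ≠ 0 := H12.irr_apply_one_ne_zero χ
    have hsum := H20.sum_irr_conj_mul χ a t
    have hterm : ∀ g : G, (χ : G → ℂ) (g * a * g⁻¹ * t) = (χ : G → ℂ) t := by
      intro g
      obtain ⟨r, o, ho, he⟩ := key g
      rw [he, H12.irr_isClassFunction χ _ r]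
      exact H20.principal_shift_core hI ⟨1, by rw [ht, pow_one]⟩ ho hχ
    rw [Finset.sum_congr rfl fun g _ => hterm g, Finset.sum_const, Finset.card_univ,
      nsmul_eq_mul, ← Nat.card_eq_fintype_card] at hsum
    have hG : (Nat.card G : ℂ) ≠ 0 := Nat.cast_ne_zero.2 Nat.card_pos.ne'
    have h1 := mul_left_cancel₀ hG hsum
    have haχ : (χ : G → ℂ) a = (χ : G → ℂ) 1 := by
      rw [eq_div_iff hχ1] at h1
      exact mul_right_cancel₀ hne (h1.symm.trans (mul_comm _ _))
    obtain ⟨n, ρ, hρ, hρχ⟩ := χ.2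
    have hc : Cfsg.IsCharacter G (χ : G → ℂ) := ⟨n, ρ, hρχ⟩
    have hker : H12.charKer _ hc = ⊤ := by
      rw [← top_le_iff, ← S.top, sSup_le_iff]
      intro B hB b hb
      obtain ⟨g, rfl⟩ := S.transitive hA hB
      rw [mem_cnj] at hb
      obtain ⟨i, hi⟩ := S.exists_pow hA ha ha1 hb
      have hb' : b = g * a ^ i * g⁻¹ := by rw [hi]; group
      rw [hb']
      exact (H12.charKer_normal hc).conj_mem _ (pow_mem ((H12.mem_charKer hc).2 haχ) i) g
    by_contra hne1
    have hall : ∀ g : G, (χ : G → ℂ) g = (χ : G → ℂ) 1 := fun g =>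
      (H12.mem_charKer hc).1 (hker.symm ▸ mem_top g)
    have h2 := H12.sum_mul_conj_eq_card_mul (χ : G → ℂ) (H12.oneIrr G : G → ℂ)
    rw [H12.classInner_irr, if_neg hne1, mul_zero] at h2
    simp only [H12.oneIrr_apply, map_one, mul_one, hall, Finset.sum_const, Finset.card_univ,
      nsmul_eq_mul, mul_eq_zero, Nat.cast_eq_zero] at h2
    exact h2.elim (fun h => absurd h Fintype.card_ne_zero) hχ1
  have horth := H20.weak_orthogonality hI (H20.isPBlock_principalBlock (M := I) (G := G))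
    (x := (1 : G)) (y := t) (by rw [orderOf_one]; norm_num) (by rw [ht])
  rw [H22.finsum_mem_block, Finset.sum_eq_single (H12.oneIrr G)] at horth
  · simp [H12.oneIrr_apply] at horth
  · intro χ hχ hne
    rcases eq_or_ne ((χ : G → ℂ) t) 0 with h | h
    · simp [h]
    · exact absurd (hval χ (H22.mem_blockFinset.1 hχ) h) hne
  · intro h
    exact absurd (H22.mem_blockFinset.2 (H20.mem_blockOf_self (H12.oneIrr G))) h

end Ctx

end H1.PR
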