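import Cfsg.Agent.H1.Pair.Main
import Cfsg.Agent.H8.PairFrob.Abelian
import Cfsg.Prelude.Def_Solvable

/-!
# Pairs generating one fixed group of odd order
-/

set_option autoImplicit false
set_option linter.unusedSectionVars false
set_option linter.unusedVariables false

open scoped commutatorElement Pointwise
open Subgroup H8.PF

namespace H1.PR

universe u

variable {G : Type u} [Group G] [Finite G] {p q : ℕ} {D : Set (Subgroup G)}

theorem pow_mem_of_sup {A M : Subgroup G} (hAM : A ≤ normalizer (M : Set G)) {x : G}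
    (hx : x ∈ A ⊔ M) (hAp : ∀ a ∈ A, a ^ p = 1) : x ^ p ∈ M := by
  rw [← SetLike.mem_coe, coe_mul_of_left_le_normalizer_right _ _ hAM] at hx
  obtain ⟨a, ha, m, hm, rfl⟩ := hx
  set W := A ⊔ M with hW
  have : (M.subgroupOf W).Normal :=
    normal_subgroupOf_of_le_normalizer (sup_le hAM le_normalizer)
  let f := QuotientGroup.mk' (M.subgroupOf W)
  let a' : W := ⟨a, mem_sup_left ha⟩
  let m' : W := ⟨m, mem_sup_right hm⟩
  have h1 : f ((a' * m') ^ p) = 1 := by
    have hm1 : f m' = 1 := (QuotientGroup.eq_one_iff m').2 (mem_subgroupOf.2 hm)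
    rw [map_pow, map_mul, hm1, mul_one, ← map_pow,
      show a' ^ p = 1 from Subtype.ext (hAp a ha), map_one]
  exact mem_subgroupOf.1 ((QuotientGroup.eq_one_iff _).1 h1)

theorem commute_of_normalize (hp : p.Prime) {A : Subgroup G} (hA : Nat.card A = p) {x a : G}
    (hx : cnj x A = A) (ha : a ∈ A) {j : ℕ} (hxp : x ^ p ^ j = 1) : a * x = x * a := by
  have := Fact.mk hp
  by_cases ha1 : a = 1
  · simp [ha1]
  have hord : orderOf a = p := by
    have h : (⟨a, ha⟩ : A) ^ Nat.card A = 1 := pow_card_eq_one'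
    rw [hA] at h
    exact orderOf_eq_prime (congrArg Subtype.val h) ha1
  have hz : zpowers a = A := eq_of_le_of_card_ge (zpowers_le.2 ha) (by rw [Nat.card_zpowers, hord, hA])
  have hm0 : x * a * x⁻¹ ∈ zpowers a := hz.symm ▸ hx ▸ conj_mem_cnj ha
  rw [← mem_powers_iff_mem_zpowers] at hm0
  obtain ⟨m, hm⟩ := hm0
  have hmj : ∀ i : ℕ, x ^ i * a * (x ^ i)⁻¹ = a ^ m ^ i := by
    intro i
    induction i with
    | zero => simp
    | succ i ih =>
      calc x ^ (i + 1) * a * (x ^ (i + 1))⁻¹ = x ^ i * (x * a * x⁻¹) * (x ^ i)⁻¹ := by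
            rw [pow_succ]; group
        _ = (x ^ i * a * (x ^ i)⁻¹) ^ m := by rw [← hm, conj_pow]
        _ = a ^ m ^ (i + 1) := by rw [ih, ← pow_mul, pow_succ]
  have h2 := hmj (p ^ j)
  rw [hxp, one_mul, inv_one, mul_one] at h2
  have h4 : a ^ m ^ p ^ j = a ^ 1 := by rw [pow_one]; exact h2.symm
  have h3 : ((m ^ p ^ j : ℕ) : ZMod p) = ((1 : ℕ) : ZMod p) := by
    rw [ZMod.natCast_eq_natCast_iff]
    have h4' := pow_eq_pow_iff_modEq.1 h4
    rwa [hord] at h4'
  rw [Nat.cast_pow, ZMod.pow_card_pow, Nat.cast_one] at h3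
  have h5 : a ^ m = a := by
    conv_rhs => rw [← pow_one a]
    rw [pow_eq_pow_iff_modEq, hord, ← ZMod.natCast_eq_natCast_iff]
    simpa using h3
  simp only at hm
  rw [h5] at hm
  exact eq_mul_inv_iff_mul_eq.1 hm

/-- The kernel of a pair generating a non-commutative group of odd order. -/
theorem pair_kernel (hp : p.Prime) {A B : Subgroup G} (hA : Nat.card A = p) (hB : Nat.card B = p)
    (hne : ∃ a ∈ A, ∃ b ∈ B, a * b ≠ b * a) (hodd : Odd (Nat.card (A ⊔ B : Subgroup G)))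
    (hgen : ∀ x ∈ A ⊔ B, cnj x A ≠ A → A ⊔ cnj x A = A ⊔ B) :
    ∃ r : ℕ, ∃ M : Subgroup G, r.Prime ∧ r ≠ p ∧ r ∣ Nat.card (A ⊔ B : Subgroup G) ∧
      IsKer r A B M := by
  classical
  have := Fact.mk hp
  have hAp : ∀ a ∈ A, a ^ p = 1 := fun a ha => by
    have h : (⟨a, ha⟩ : A) ^ Nat.card A = 1 := pow_card_eq_one'
    rw [hA] at h; exact congrArg Subtype.val h
  have hBp : ∀ b ∈ B, b ^ p = 1 := fun b hb => by
    have h : (⟨b, hb⟩ : B) ^ Nat.card B = 1 := pow_card_eq_one'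
    rw [hB] at h; exact congrArg Subtype.val h
  set W := A ⊔ B with hW
  have := H16.FT.oddOrder (G := W) hodd
  obtain ⟨a0, ha0, b0, hb0, hab⟩ := hne
  obtain ⟨x0, hx0, hx0A⟩ : ∃ x ∈ W, cnj x A ≠ A := ⟨b0, mem_sup_right hb0, fun h =>
    hab (commute_of_normalize hp hA h ha0 (j := 1) (by rw [pow_one]; exact hBp b0 hb0))⟩
  set K0 := ⁅W, W⁆ with hK0
  have hK0W : K0 ≤ W := commutator_le_self W
  have hWK0 : W ≤ normalizer (K0 : Set G) := H1.left_le_normalizer_commutator
  have hWA : W ≤ A ⊔ K0 := by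
    refine (hgen x0 hx0 hx0A).ge.trans (sup_le le_sup_left fun y hy => ?_)
    rw [mem_cnj] at hy
    rw [show y = ⁅x0, x0⁻¹ * y * x0⁆ * (x0⁻¹ * y * x0) by
      simp only [commutatorElement_def]; group]
    exact mul_mem (mem_sup_right (commutator_mem_commutator hx0 (mem_sup_left hy)))
      (mem_sup_left hy)
  have hWne : Nontrivial W := ⟨⟨⟨a0, mem_sup_left ha0⟩, ⟨b0, mem_sup_right hb0⟩, fun h => by
    have := congrArg Subtype.val h
    exact hab (by simp only at this; rw [this])⟩⟩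
  have hlt : ∀ M : Subgroup G, M ≤ W → M ≠ ⊥ → ⁅M, M⁆ < M := by
    intro M hMW hMb
    have : Group.IsSolvable M := H1.isSolvable_mono inferInstance hMW
    have : Nontrivial M := (nontrivial_iff_ne_bot M).2 hMb
    rw [← map_subtype_commutator]
    conv_rhs => rw [← range_subtype M, MonoidHom.range_eq_map]
    exact (map_lt_map_iff_of_injective M.subtype_injective).2
      (Group.IsSolvable.commutator_lt_top_of_nontrivial M)
  have hAK0 : ∀ a ∈ A, a ∈ K0 → a = 1 := by
    intro a ha haK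
    by_contra ha1
    have hle : A ≤ K0 := by
      have hord : orderOf a = p := orderOf_eq_prime (hAp a ha) ha1
      rw [← eq_of_le_of_card_ge (zpowers_le.2 ha) (by rw [Nat.card_zpowers, hord, hA])]
      exact zpowers_le.2 haK
    exact (hlt W le_rfl ((nontrivial_iff_ne_bot W).1 hWne)).not_ge
      (hWA.trans (sup_le hle le_rfl))
  -- a minimal normal subgroup moving `A`
  let S : Set (Subgroup G) := {M | M ≤ K0 ∧ W ≤ normalizer (M : Set G) ∧
    ¬ M ≤ centralizer (A : Set G)}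
  have hSne : S.Nonempty := by
    refine ⟨K0, le_rfl, hWK0, fun hc => hx0A ?_⟩
    have hWN : W ≤ normalizer (A : Set G) := hWA.trans (sup_le le_normalizer fun k hk =>
      mem_normalizer_cnj.2 (cnj_eq_of_commute (hc hk)))
    exact cnj_eq_of_mem_normalizer (hWN hx0)
  obtain ⟨M, hMmin⟩ := S.toFinite.exists_minimal hSne
  obtain ⟨hMK, hWM, hMA⟩ := hMmin.prop
  have hMW : M ≤ W := hMK.trans hK0W
  have small : ∀ N : Subgroup G, N < M → W ≤ normalizer (N : Set G) →
      N ≤ centralizer (A : Set G) := fun N hN hWN => by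
    by_contra h
    exact hN.not_ge (hMmin.le_of_le ⟨hN.le.trans hMK, hWN, h⟩ hN.le)
  have hMb : M ≠ ⊥ := fun h => hMA (h ▸ bot_le)
  have hWN' : ∀ {N : Subgroup G}, W ≤ normalizer (N : Set G) → ∀ g ∈ W, cnj g N = N :=
    fun hN g hg => cnj_eq_of_mem_normalizer (hN hg)
  have hder : ∀ x ∈ ⁅M, M⁆, ∀ y ∈ W, y * x = x * y := by
    have hn : W ≤ normalizer (⁅M, M⁆ : Subgroup G) := fun g hg => by
      rw [mem_normalizer_cnj, cnj_commutator, hWN' hWM g hg]
    have hc := small _ (hlt M hMW hMb) hn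
    intro x hx
    have hgenW : W ≤ centralizer ({x} : Set G) := by
      refine (hgen x0 hx0 hx0A).ge.trans (sup_le ?_ fun y hy => ?_)
      · exact fun y hy => mem_centralizer_singleton_iff.2 (mem_centralizer_iff.1 (hc hx) y hy)
      · rw [mem_cnj] at hy
        have h1 := mem_centralizer_iff.1 (hc ((conj_mem_iff (hn hx0) _).1
          (show x0 * (x0⁻¹ * x * x0) * x0⁻¹ ∈ ⁅M, M⁆ by simpa [mul_assoc] using hx))) _ hy
        rw [mem_centralizer_singleton_iff]
        calc y * x = x0 * ((x0⁻¹ * y * x0) * (x0⁻¹ * x * x0)) * x0⁻¹ := by group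
          _ = x0 * ((x0⁻¹ * x * x0) * (x0⁻¹ * y * x0)) * x0⁻¹ := by rw [h1]
          _ = x * y := by group
    exact fun y hy => mem_centralizer_singleton_iff.1 (hgenW hy)
  have hnil : Group.IsNilpotent M := by
    rw [Subgroup.nilpotent_iff_lowerCentralSeries]
    refine ⟨2, ?_⟩
    rw [Subgroup.lowerCentralSeries_succ, commutator_eq_bot_iff_le_centralizer]
    intro x hx
    rw [mem_centralizer_iff]
    intro y _
    rw [Subgroup.lowerCentralSeries_succ, Subgroup.lowerCentralSeries_zero] at hx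
    refine Subtype.ext (hder x ?_ y (hMW y.2))
    rw [← map_subtype_commutator]
    exact ⟨x, hx, rfl⟩
  obtain ⟨r, hr, hMr⟩ : ∃ r : ℕ, r.Prime ∧ IsPGroup r M := by
    by_contra hno
    push Not at hno
    refine hMA ?_
    rw [← subgroupOf_eq_top, ← index_eq_one]
    by_contra hne
    obtain ⟨r, hr, hrd⟩ := Nat.exists_prime_and_dvd hne
    have := Fact.mk hr
    obtain ⟨P⟩ := (inferInstance : Nonempty (Sylow r M))
    have hPn : (P : Subgroup M).Normal :=
      Sylow.normal_of_normalizerCondition Group.normalizerCondition_of_isNilpotent P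
    have hPc := P.characteristic_of_normal hPn
    set N := (P : Subgroup M).map M.subtype with hN
    have hNW : W ≤ normalizer (N : Set G) := by
      intro g hg
      let e : M ≃* M :=
        ((MulAut.conj g).subgroupMap M).trans (MulEquiv.subgroupCongr (hWN' hWM g hg))
      refine mem_normalizer_of_map_le ?_
      rintro _ ⟨x, hx, rfl⟩
      refine ⟨e x, ?_, rfl⟩
      exact (characteristic_iff_map_eq.1 hPc e) ▸ mem_map_of_mem e.toMonoidHom hx
    have hlt' : N < M := lt_of_le_of_ne (map_subtype_le _) fun h =>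
      hno r hr (h ▸ P.2.map M.subtype)
    have hle : (P : Subgroup M) ≤ (centralizer (A : Set G)).subgroupOf M := fun x hx =>
      small N hlt' hNW (mem_map_of_mem _ hx)
    exact P.not_dvd_index (hrd.trans (index_dvd_of_le hle))
  have hAnM : A ≤ normalizer (M : Set G) := le_sup_left.trans hWM
  obtain ⟨x, hxM, hxA⟩ : ∃ x ∈ M, cnj x A ≠ A := by
    by_contra hall
    push Not at hall
    refine hMA fun x hx => mem_centralizer_iff.2 fun a ha => ?_
    have h1 : ⁅x, a⁆ = 1 := by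
      refine hAK0 _ ?_ (commutator_mem_commutator (hMW hx) (mem_sup_left ha))
      rw [commutatorElement_def]
      exact A.mul_mem (hall x hx ▸ conj_mem_cnj ha) (A.inv_mem ha)
    exact (commutatorElement_eq_one_iff_mul_comm.1 h1).symm
  have hWAM : W = A ⊔ M := by
    refine le_antisymm ((hgen x (hMW hxM) hxA).ge.trans (sup_le le_sup_left fun y hy => ?_))
      (sup_le le_sup_left hMW)
    rw [mem_cnj] at hy
    rw [show y = x * (x⁻¹ * y * x) * x⁻¹ by group]
    exact mul_mem (mul_mem (mem_sup_right hxM) (mem_sup_left hy)) (inv_mem (mem_sup_right hxM))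
  have hrp : r ≠ p := by
    intro hrp
    subst hrp
    have hWp : IsPGroup r W := hWAM ▸
      (IsPGroup.of_card (n := 1) (by rw [hA, pow_one]) :
        IsPGroup r A).to_sup_of_normal_right' hMr hAnM
    let T : Set (Subgroup G) := {N | A ≤ N ∧ N < W}
    have hAW : A < W := lt_of_le_of_ne le_sup_left fun h =>
      hx0A (cnj_eq_of_mem_normalizer (le_normalizer (h ▸ hx0)))
    obtain ⟨N, hNmax⟩ := T.toFinite.exists_maximal ⟨A, le_rfl, hAW⟩
    obtain ⟨hAN, hNW⟩ := hNmax.prop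
    obtain ⟨g, hg, hgN, hgn⟩ := exists_mem_normalizer hWp hNW.le hNW.not_ge
    have htop : W ≤ normalizer (N : Set G) := by
      by_contra hnot
      have h1 : normalizer (N : Set G) ⊓ W ∈ T :=
        ⟨le_inf (hAN.trans le_normalizer) le_sup_left,
          lt_of_le_of_ne inf_le_right fun h => hnot (h ▸ inf_le_left)⟩
      exact hgn (hNmax.le_of_ge h1 (le_inf le_normalizer hNW.le) ⟨hgN, hg⟩)
    refine hNW.not_ge ((hgen x0 hx0 hx0A).ge.trans (sup_le hAN ?_))
    exact (cnj_mono hAN).trans (cnj_eq_of_mem_normalizer (htop hx0)).le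
  refine ⟨r, M, hr, hrp, ?_, hMr, fun a ha k hk => (conj_mem_iff (hAnM ha) k).2 hk, hWAM⟩
  have := Fact.mk hr
  rcases hMr.card_eq_or_dvd with h | h
  · exact absurd (card_eq_one.1 h) hMb
  · exact h.trans (card_dvd_of_le hMW)

/-- The prime of a pair kernel is determined by the order of the pair. -/
theorem prime_unique (hp : p.Prime) {A B M : Subgroup G} {r s : ℕ} (hA : Nat.card A = p)
    (hK : IsKer r A B M) (hr : r.Prime) (hs : s.Prime) (hsp : s ≠ p)
    (hdvd : s ∣ Nat.card (A ⊔ B : Subgroup G)) : s = r := by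
  have := Fact.mk hs
  obtain ⟨⟨w, hw⟩, hws⟩ := exists_prime_orderOf_dvd_card' s hdvd
  rw [orderOf_mk] at hws
  rw [hK.sup_eq] at hw
  have hwp : w ^ p ∈ M := pow_mem_of_sup
    (fun a ha => mem_normalizer_of_map_le (hK.norm a ha)) hw fun a ha => by
      have h : (⟨a, ha⟩ : A) ^ Nat.card A = 1 := pow_card_eq_one'
      rw [hA] at h; exact congrArg Subtype.val h
  obtain ⟨j, hj⟩ := qel_of_mem hK.isp hwp
  have h1 : orderOf w ∣ p * r ^ j := orderOf_dvd_of_pow_eq_one (by rw [pow_mul, hj])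
  rw [hws] at h1
  rcases (Nat.Prime.dvd_mul hs).1 h1 with h | h
  · exact absurd ((Nat.prime_dvd_prime_iff_eq hs hp).1 h) hsp
  · exact (Nat.prime_dvd_prime_iff_eq hs hr).1 (hs.dvd_of_dvd_pow h)

/-- Non-commutative kernels give the class-two property. -/
theorem two_of_nonabelian (S : Sys p q D)
    (hnab : ∀ A ∈ D, ∀ B ∈ D, A ≠ B → ∀ K : Subgroup G, IsKer q A B K →
      ∃ x ∈ K, ∃ y ∈ K, x * y ≠ y * x) :
    PSys p q D := by
  refine { toSys := S, two := fun A hA Q hQ hAQ => ?_ }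
  have := Fact.mk S.hp
  have := Fact.mk S.hq
  have hAp : IsPGroup p A := IsPGroup.of_card (n := 1) (by rw [S.card A hA, pow_one])
  have : Group.IsNilpotent A := hAp.isNilpotent
  have hcop : (Nat.card A).Coprime (Nat.card Q) := by
    obtain ⟨k, hk⟩ := IsPGroup.iff_card.1 hQ
    rw [S.card A hA, hk]
    exact Nat.Coprime.pow_right k ((Nat.coprime_primes S.hp S.hq).2 S.hne)
  set L := ⁅Q, A⁆ with hL
  have hLA : ⁅L, A⁆ = L := H1.commutator_commutator_eq hAQ hcop (Or.inl inferInstance)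
  have hLq : IsPGroup q L := hQ.to_le (H1.commutator_le_left_of_le_normalizer hAQ)
  have hAL : A ≤ normalizer (L : Set G) := H1.right_le_normalizer_commutator
  set c : ℕ → Subgroup G := fun i => L.lowerCentralSeries i with hc
  by_contra hbad
  have hbad1 : ¬ c 1 ≤ centralizer (A : Set G) := by
    simpa [hc, Subgroup.lowerCentralSeries_succ] using hbad
  obtain ⟨n, hn⟩ : ∃ n, c n = ⊥ := by
    have : Group.IsNilpotent L := hLq.isNilpotent
    obtain ⟨n, hn⟩ := Subgroup.nilpotent_iff_lowerCentralSeries.1 this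
    exact ⟨n, by rw [hc]; simp only; rw [← Subgroup.top_subtype_lowerCentralSeries, hn, Subgroup.map_bot]⟩
  have hanti : ∀ {i j : ℕ}, i ≤ j → c j ≤ c i := fun h =>
    Subgroup.lowerCentralSeries_antitone L h
  -- the last moved term
  obtain ⟨k, hk1, hk, hklast⟩ : ∃ k, 1 ≤ k ∧ ¬ c k ≤ centralizer (A : Set G) ∧
      ∀ j, k < j → c j ≤ centralizer (A : Set G) := by
    classical
    have hb : ∀ j, ¬ c j ≤ centralizer (A : Set G) → j ≤ n := fun j hj => by
      by_contra hlt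
      exact hj ((hanti (le_of_lt (not_le.1 hlt))).trans (hn ▸ bot_le))
    refine ⟨Nat.findGreatest (fun j => ¬ c j ≤ centralizer (A : Set G)) n,
      Nat.le_findGreatest (hb 1 hbad1) hbad1,
      Nat.findGreatest_spec (P := fun j => ¬ c j ≤ centralizer (A : Set G)) (hb 1 hbad1) hbad1,
      fun j hj => ?_⟩
    by_contra hjc
    exact Nat.findGreatest_is_greatest hj (hb j hjc) hjc
  have hsucc : ∀ i, c (i + 1) = ⁅c i, L⁆ := fun i => Subgroup.lowerCentralSeries_succ L i
  have hk2 : c (k + 2) = ⊥ := by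
    have h1 : ⁅⁅A, c (k + 1)⁆, L⁆ = ⊥ := by
      rw [commutator_eq_bot_iff_le_centralizer.2 (le_centralizer_iff.1 (hklast _ (by omega))),
        commutator_bot_left]
    have h2 : ⁅⁅c (k + 1), L⁆, A⁆ = ⊥ := by
      rw [commutator_eq_bot_iff_le_centralizer, ← hsucc]
      exact hklast _ (by omega)
    have h3 := commutator_commutator_eq_bot_of_rotate h1 h2
    rw [hLA, commutator_comm, ← hsucc] at h3
    exact h3
  have habk : ⁅c k, c k⁆ = ⊥ := by
    have h2 : ⁅⁅c k, L⁆, L⁆ = ⊥ := by rw [← hsucc, ← hsucc]; exact hk2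
    have h1 : ⁅⁅L, c k⁆, L⁆ = ⊥ := by rw [commutator_comm L]; exact h2
    have h3 := commutator_commutator_eq_bot_of_rotate h1 h2
    have h4 : c 1 = ⁅L, L⁆ := by rw [hc]; simp [Subgroup.lowerCentralSeries_succ]
    rw [← h4] at h3
    exact le_bot_iff.1 ((commutator_mono (hanti hk1) le_rfl).trans h3.le)
  have hAnc : A ≤ normalizer (c k : Set G) := fun a ha => by
    rw [mem_normalizer_cnj]
    show (Subgroup.lowerCentralSeries L k).map _ = _
    rw [Subgroup.map_lowerCentralSeries]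
    exact congrArg (fun X : Subgroup G => X.lowerCentralSeries k)
      (cnj_eq_of_mem_normalizer (hAL ha))
  have hckq : IsPGroup q (c k) := hLq.to_le (Subgroup.lowerCentralSeries_le_self L k)
  have hKer : IsKer q A (c k) (c k) :=
    ⟨hckq, fun a ha x hx => (conj_mem_iff (hAnc ha) x).2 hx, rfl⟩
  obtain ⟨x, hx, hxA⟩ := SetLike.not_le_iff_exists.1 hk
  have hne : A ≠ cnj x A := fun h => hxA (mem_centralizer_iff.2 fun a ha =>
    S.ker_centralizes hA hKer hx h.symm ha)
  obtain ⟨K, hK⟩ := S.pair A hA _ (S.inv A hA x) hne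
  have hKc : K ≤ c k := by
    intro y hy
    refine S.ker_qel_mem hA hKer ?_ (qel_of_mem hK.isp hy)
    have h1 : A ⊔ cnj x A ≤ A ⊔ c k := sup_le le_sup_left fun z hz => by
      rw [mem_cnj] at hz
      rw [show z = x * (x⁻¹ * z * x) * x⁻¹ by group]
      exact mul_mem (mul_mem (mem_sup_right hx) (mem_sup_left hz)) (inv_mem (mem_sup_right hx))
    exact h1 (hK.sup_eq.symm ▸ mem_sup_right hy)
  obtain ⟨u, hu, v, hv, huv⟩ := hnab A hA _ (S.inv A hA x) hne K hK
  refine huv (commutatorElement_eq_one_iff_mul_comm.1 ?_)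
  have := commutator_mem_commutator (hKc hu) (hKc hv)
  rwa [habk, mem_bot] at this

/-- Pairs isomorphic to one group give a system of one prime. -/
theorem exists_sys {F : Type*} [Group F] [Finite F] (hG : ¬ IsMulCommutative G)
    (hp : p.Prime) (hp2 : p ≠ 2) (hDp : ∀ A ∈ D, Nat.card ↥A = p)
    (hDinv : ∀ A ∈ D, ∀ g : G, cnj g A ∈ D) (htop : sSup D = ⊤) (hF : Odd (Nat.card F))
    (hpair : ∀ A ∈ D, ∀ B ∈ D, A ≠ B → Nonempty (↥(A ⊔ B) ≃* F)) :
    ∃ q, Sys p q D ∧ (∀ A ∈ D, ∃ B ∈ D, B ≠ A) := by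
  classical
  have hcyc : ∀ A ∈ D, ∀ a ∈ A, ∀ b ∈ A, a * b = b * a := fun A hA a ha b hb => by
    have := Fact.mk hp
    have : IsCyclic A := isCyclic_of_prime_card (hDp A hA)
    exact congrArg Subtype.val ((IsCyclic.isMulCommutative (α := A)).is_comm.comm ⟨a, ha⟩ ⟨b, hb⟩)
  have hnotall : ¬ ∀ A ∈ D, ∀ B ∈ D, ∀ a ∈ A, ∀ b ∈ B, a * b = b * a := fun h => hG
    ⟨⟨fun x y => by
      have hy : y ∈ center G := mem_center_of_members htop fun B hB b hb => by
        have hle : (⊤ : Subgroup G) ≤ centralizer ({b} : Set G) := by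
          rw [← htop, sSup_le_iff]
          exact fun C hC c hc => mem_centralizer_singleton_iff.2 (h C hC B hB c hc b hb)
        exact mem_centralizer_singleton_iff.1 (hle (mem_top y))
      exact mem_center_iff.1 hy x⟩⟩
  obtain ⟨A₁, hA₁, B₁, hB₁, h1ne, a₁, ha₁, b₁, hb₁, h1⟩ :
      ∃ A ∈ D, ∃ B ∈ D, A ≠ B ∧ ∃ a ∈ A, ∃ b ∈ B, a * b ≠ b * a := by
    by_contra hno
    push Not at hno
    refine hnotall fun A hA B hB a ha b hb => ?_
    by_cases h : A = B
    · subst h; exact hcyc A hA a ha b hb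
    · exact hno A hA B hB h a ha b hb
  have hnc : ∀ A ∈ D, ∀ B ∈ D, A ≠ B → ∃ a ∈ A, ∃ b ∈ B, a * b ≠ b * a := by
    intro A hA B hB hne
    by_contra hno
    push Not at hno
    have hcomm : ∀ x ∈ A ⊔ B, ∀ y ∈ A ⊔ B, x * y = y * x := by
      have hA' : A ⊔ B ≤ centralizer ((A : Set G) ∪ B) := by
        refine sup_le (fun a ha => mem_centralizer_iff.2 ?_) (fun b hb => mem_centralizer_iff.2 ?_)
        · rintro y (hy | hy)
          · exact hcyc A hA y hy a ha
          · exact (hno a ha y hy).symm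
        · rintro y (hy | hy)
          · exact hno y hy b hb
          · exact hcyc B hB y hy b hb
      intro x hx y hy
      have h2 : A ⊔ B ≤ centralizer ({x} : Set G) := sup_le
        (fun a ha => mem_centralizer_singleton_iff.2
          (mem_centralizer_iff.1 (hA' hx) a (Or.inl ha)))
        (fun b hb => mem_centralizer_singleton_iff.2
          (mem_centralizer_iff.1 (hA' hx) b (Or.inr hb)))
      exact (mem_centralizer_singleton_iff.1 (h2 hy)).symm
    obtain ⟨e⟩ := hpair A hA B hB hne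
    obtain ⟨e'⟩ := hpair A₁ hA₁ B₁ hB₁ h1ne
    let f := e'.trans e.symm
    have h3 := hcomm _ (f ⟨a₁, mem_sup_left ha₁⟩).2 _ (f ⟨b₁, mem_sup_right hb₁⟩).2
    have h4 : f (⟨a₁, mem_sup_left ha₁⟩ * ⟨b₁, mem_sup_right hb₁⟩) =
        f (⟨b₁, mem_sup_right hb₁⟩ * ⟨a₁, mem_sup_left ha₁⟩) := by
      rw [map_mul, map_mul]; exact Subtype.ext h3
    exact h1 (congrArg Subtype.val (f.injective h4))
  have hcard : ∀ A ∈ D, ∀ B ∈ D, A ≠ B → Nat.card ↥(A ⊔ B) = Nat.card F := fun A hA B hB h =>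
    (hpair A hA B hB h).elim fun e => Nat.card_congr e.toEquiv
  have hclosed : ∀ A ∈ D, ∀ B ∈ D, ∀ C ∈ D, ∀ E ∈ D, A ≠ B → C ≠ E → C ≤ A ⊔ B → E ≤ A ⊔ B →
      C ⊔ E = A ⊔ B := fun A hA B hB C hC E hE h h' hCle hEle =>
    eq_of_le_of_card_ge (sup_le hCle hEle) (by rw [hcard A hA B hB h, hcard C hC E hE h'])
  have hker : ∀ A ∈ D, ∀ B ∈ D, A ≠ B → ∃ r : ℕ, ∃ M : Subgroup G, r.Prime ∧ r ≠ p ∧
      r ∣ Nat.card F ∧ IsKer r A B M := by
    intro A hA B hB h
    obtain ⟨r, M, hr, hrp, hrd, hK⟩ := pair_kernel hp (hDp A hA) (hDp B hB) (hnc A hA B hB h)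
      (by rw [hcard A hA B hB h]; exact hF)
      (fun x hx hne => hclosed A hA B hB A hA _ (hDinv A hA x) h (Ne.symm hne) le_sup_left (by
        intro y hy
        rw [mem_cnj] at hy
        rw [show y = x * (x⁻¹ * y * x) * x⁻¹ by group]
        exact mul_mem (mul_mem hx (mem_sup_left hy)) (inv_mem hx)))
    exact ⟨r, M, hr, hrp, hcard A hA B hB h ▸ hrd, hK⟩
  obtain ⟨q, M₁, hq, hqp, hqd, hK₁⟩ := hker A₁ hA₁ B₁ hB₁ h1ne
  refine ⟨q, ⟨⟨hp, hq, hqp.symm, hp2, ?_, hDp, hDinv, ?_, hnc⟩, hclosed⟩, fun A hA => ?_⟩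
  · rintro rfl
    exact Nat.not_even_iff_odd.2 hF (even_iff_two_dvd.2 hqd)
  · intro A hA B hB h
    obtain ⟨r, M, hr, hrp, hrd, hK⟩ := hker A hA B hB h
    obtain rfl := prime_unique hp (hDp A hA) hK hr hq hqp (hcard A hA B hB h ▸ hqd)
    exact ⟨M, hK⟩
  · by_contra hno
    push Not at hno
    exact h1ne ((hno A₁ hA₁).trans (hno B₁ hB₁).symm)

/-- The kernel, with its fixed points central. -/
theorem exists_kernel_fixed {F : Type*} [Group F] [Finite F] (S : Sys p q D) (htop : sSup D = ⊤)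
    (hpair : ∀ A ∈ D, ∀ B ∈ D, A ≠ B → Nonempty (↥(A ⊔ B) ≃* F)) {A : Subgroup G} (hA : A ∈ D) :
    ∃ Q : Subgroup G, Q.Normal ∧ IsPGroup q Q ∧ Q ⊔ A = ⊤ ∧
      ∀ x ∈ Q, (∀ a ∈ A, x * a = a * x) → x ∈ center G := by
  classical
  by_cases hab : ∀ A ∈ D, ∀ B ∈ D, A ≠ B → ∀ K : Subgroup G, IsKer q A B K →
      ∀ x ∈ K, ∀ y ∈ K, x * y = y * x
  · obtain ⟨M, hMn, hMq, hMt, hfix⟩ := S.toPre.abelian_case htop hab
      (fun A hA a ha ha1 g => S.no_invert htop hA ha ha1 g) hA
    exact ⟨M, hMn, hMq, hMt, fun x hx hc => (hfix x hx hc).symm ▸ one_mem _⟩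
  · have hnab : ∀ A ∈ D, ∀ B ∈ D, A ≠ B → ∀ K : Subgroup G, IsKer q A B K →
        ∃ x ∈ K, ∃ y ∈ K, x * y ≠ y * x := by
      push Not at hab
      obtain ⟨A₁, hA₁, B₁, hB₁, h₁, K₁, hK₁, x, hx, y, hy, hxy⟩ := hab
      intro A hA B hB h K hK
      obtain ⟨e⟩ := hpair A hA B hB h
      obtain ⟨e'⟩ := hpair A₁ hA₁ B₁ hB₁ h₁
      let f := e'.trans e.symm
      have hK₁W : K₁ ≤ A₁ ⊔ B₁ := hK₁.sup_eq.symm ▸ le_sup_right
      have mem : ∀ z (hz : z ∈ K₁), ((f ⟨z, hK₁W hz⟩ : (A ⊔ B : Subgroup G)) : G) ∈ K := by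
        intro z hz
        refine S.ker_qel_mem hA hK ?_ ?_
        · rw [← hK.sup_eq]; exact (f _).2
        · obtain ⟨m, hm⟩ := qel_of_mem hK₁.isp hz
          refine ⟨m, ?_⟩
          rw [← SubmonoidClass.coe_pow, ← map_pow,
            show (⟨z, hK₁W hz⟩ : (A₁ ⊔ B₁ : Subgroup G)) ^ q ^ m = 1 from Subtype.ext hm, map_one,
            OneMemClass.coe_one]
      refine ⟨_, mem x hx, _, mem y hy, fun e2 => hxy ?_⟩
      have h4 : f (⟨x, hK₁W hx⟩ * ⟨y, hK₁W hy⟩) = f (⟨y, hK₁W hy⟩ * ⟨x, hK₁W hx⟩) := by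
        rw [map_mul, map_mul]; exact Subtype.ext e2
      exact congrArg Subtype.val (f.injective h4)
    have P := two_of_nonabelian S hnab
    obtain ⟨Q, hQn, hQq, hQt⟩ := exists_kernel _ G D le_rfl P htop A hA
    refine ⟨Q, hQn, hQq, hQt, fun x hx hc => ?_⟩
    have hAQ : A ≤ normalizer (Q : Set G) := fun a _ =>
      mem_normalizer_of_map_le fun z hz => hQn.conj_mem z hz a
    have hL := P.sys_commutator hA hQq hAQ
    set L := ⁅Q, A⁆ with hLdef
    have hGL : A ⊔ L = ⊤ := by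
      rw [← top_le_iff, ← htop, sSup_le_iff]
      intro B hB
      have hK : IsKer q A Q Q := ⟨hQq, fun a ha k hk => (conj_mem_iff (hAQ ha) k).2 hk, rfl⟩
      obtain ⟨k, hk, rfl⟩ := S.ker_conj_member hA hK hB
        (by rw [sup_comm, hQt]; exact le_top)
      obtain ⟨l, hl, c, hc', rfl⟩ := P.factor hA hQq hAQ hk
      rw [← cnj_cnj, cnj_eq_of_commute hc'.2]
      exact P.member_le hl
    have hxL : x ∈ L := P.qel_mem hA hL (hGL.symm ▸ mem_top x) (qel_of_mem hQq hx)
    have hxU := P.fixed_mem_derived hA hL hxL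
      (mem_centralizer_iff.2 fun a ha => (hc a ha).symm)
    have hle : (⊤ : Subgroup G) ≤ centralizer ({x} : Set G) := by
      rw [← hGL]
      exact sup_le (le_centralizer_singleton hc)
        (le_centralizer_singleton fun l hl => P.comm_derived hA hL hxU hl)
    exact mem_center_iff.2 fun g => mem_centralizer_singleton_iff.1 (hle (mem_top g))

/-- The central quotient is a Frobenius group of odd order. -/
theorem frobenius_quotient (S : Sys p q D) (htop : sSup D = ⊤)
    (htwo : ∀ A ∈ D, ∃ B ∈ D, B ≠ A) {A Q : Subgroup G} (hA : A ∈ D) (hQn : Q.Normal)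
    (hQq : IsPGroup q Q) (hQt : Q ⊔ A = ⊤)
    (hfix : ∀ x ∈ Q, (∀ a ∈ A, x * a = a * x) → x ∈ center G) (hG : ¬ IsMulCommutative G) :
    Odd (Nat.card (G ⧸ center G)) ∧
      ∃ H : Subgroup (G ⧸ center G), Cfsg.IsFrobeniusComplement H := by
  have := Fact.mk S.hq
  have := Fact.mk S.hp
  have hK : IsKer q A Q Q := ⟨hQq, fun a _ k hk => hQn.conj_mem k hk a, rfl⟩
  have hAQ : A ⊔ Q = ⊤ := by rw [sup_comm, hQt]
  have hcomm : ∀ a ∈ A, ∀ b ∈ A, a * b = b * a := fun a ha b hb => by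
    have : IsCyclic A := isCyclic_of_prime_card (S.card A hA)
    exact congrArg Subtype.val ((IsCyclic.isMulCommutative (α := A)).is_comm.comm ⟨a, ha⟩ ⟨b, hb⟩)
  have hAc : ∀ a ∈ A, a ∈ center G → a = 1 := by
    intro a ha hac
    by_contra ha1
    obtain ⟨B, hB, hBA⟩ := htwo A hA
    obtain ⟨a', ha', b, hb, hne⟩ := S.ncomm A hA B hB hBA.symm
    obtain ⟨i, rfl⟩ := S.exists_pow hA ha ha1 ha'
    exact hne (mem_center_iff.1 (pow_mem hac i) b).symm
  have hcQ : center G ≤ Q := by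
    intro z hz
    obtain ⟨k, hk, a, ha, rfl⟩ := S.ker_decomp hK (x := z) (hAQ ▸ mem_top z)
    have hk' : k ∈ center G := hfix k hk fun b hb => by
      have h1 := mem_center_iff.1 hz b
      refine (mul_right_cancel (b := a) ?_).symm
      rw [mul_assoc, h1, mul_assoc, mul_assoc, hcomm a ha b hb]
    have ha' : a = 1 := hAc a ha (by
      have := mul_mem (inv_mem hk') hz
      rwa [inv_mul_cancel_left] at this)
    rw [ha', mul_one]; exact hk
  refine ⟨?_, A.map (QuotientGroup.mk' (center G)), ?_, ?_, ?_⟩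
  · have h : Odd (Nat.card G) := by
      rw [← card_top (G := G), ← hAQ, S.card_sup hA hK]
      obtain ⟨k, hk⟩ := IsPGroup.iff_card.1 hQq
      exact (hk ▸ (S.hq.odd_of_ne_two S.hq2).pow : Odd (Nat.card Q)).mul
        (S.hp.odd_of_ne_two S.hp2)
    exact h.of_dvd_nat (card_quotient_dvd_card _)
  · rw [Ne, Subgroup.map_eq_bot_iff, QuotientGroup.ker_mk']
    intro h
    obtain ⟨a, ha, ha1⟩ := S.exists_ne_one hA
    exact ha1 (hAc a ha (h ha))
  · intro h
    have h' := congrArg (Subgroup.comap (QuotientGroup.mk' (center G))) h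
    rw [comap_map_eq, QuotientGroup.ker_mk', comap_top] at h'
    have hle : A ⊔ center G ≤ centralizer (A : Set G) :=
      sup_le (fun a ha => mem_centralizer_iff.2 fun b hb => hcomm b hb a ha)
        (center_le_centralizer _)
    have hAcen : A ≤ center G := fun a ha => mem_center_iff.2 fun g =>
      (mem_centralizer_iff.1 (hle (h'.symm ▸ mem_top g)) a ha).symm
    obtain ⟨a, ha, ha1⟩ := S.exists_ne_one hA
    exact ha1 (hAc a ha (hAcen ha))
  · intro g hg
    obtain ⟨g, rfl⟩ := QuotientGroup.mk'_surjective (center G) g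
    rw [eq_bot_iff]
    intro y hy
    obtain ⟨⟨a1, ha1, rfl⟩, hy2⟩ := hy
    have hy3 : QuotientGroup.mk' (center G) a1 ∈ MulAut.conj (QuotientGroup.mk' (center G) g) •
        A.map (QuotientGroup.mk' (center G)) := hy2
    rw [mem_pointwise_smul_iff_inv_smul_mem] at hy3
    obtain ⟨a2, ha2, he⟩ := hy3
    rw [MulAut.smul_def, ← map_inv, MulAut.conj_apply, inv_inv, ← map_inv, ← map_mul,
      ← map_mul] at he
    obtain ⟨k, hk, b, hb, rfl⟩ := S.ker_decomp hK (x := g) (hAQ ▸ mem_top g)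
    -- `k a2 k⁻¹ ≡ a1`
    obtain ⟨z, hz, hz'⟩ : ∃ z ∈ center G, k * a2 * k⁻¹ = a1 * z := by
      have h2 := QuotientGroup.eq.1 he.symm
      refine ⟨((k * b)⁻¹ * a1 * (k * b))⁻¹ * a2, h2, ?_⟩
      have h3 := mem_center_iff.1 h2
      have h4 : b * a2 * b⁻¹ = a2 := by rw [hcomm b hb a2 ha2, mul_inv_cancel_right]
      calc k * a2 * k⁻¹ = k * (b * a2 * b⁻¹) * k⁻¹ := by rw [h4]
        _ = a1 * ((k * b) * (((k * b)⁻¹ * a1 * (k * b))⁻¹ * a2) * (k * b)⁻¹) := by group
        _ = _ := by rw [h3 (k * b), mul_inv_cancel_right]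
    by_cases ha11 : a1 = 1
    · simp [ha11]
    exfalso
    have heq : a1 = a2 := by
      have h5 : a1⁻¹ * a2 ∈ Q := by
        have h6 : a1⁻¹ * a2 = z * (k * (a2⁻¹ * k⁻¹ * a2)) := by
          have : z = a1⁻¹ * (k * a2 * k⁻¹) := by rw [hz']; group
          rw [this]; group
        rw [h6]
        refine Q.mul_mem (hcQ hz) (Q.mul_mem hk ?_)
        have := hQn.conj_mem _ (Q.inv_mem hk) a2⁻¹
        simpa using this
      exact inv_mul_eq_one.1 (S.eq_one_of_qel hA (A.mul_mem (A.inv_mem ha1) ha2)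
        (qel_of_mem hQq h5))
    subst heq
    have hzc := mem_center_iff.1 hz
    have hzp : z ^ p = 1 := by
      have h7 : (k * a1 * k⁻¹) ^ p = a1 ^ p * z ^ p := by
        rw [hz', (show Commute a1 z from hzc a1).mul_pow]
      rw [conj_pow, S.pow_p hA ha1, mul_one, mul_inv_cancel, one_mul] at h7
      exact h7.symm
    have hz1 : z = 1 := (qel_of_mem hQq (hcQ hz)).eq_one S.hp S.hq S.hne hzp
    rw [hz1, mul_one] at hz'
    have hkA : ∀ a ∈ A, k * a = a * k := fun a ha => by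
      obtain ⟨i, rfl⟩ := S.exists_pow hA ha1 ha11 ha
      exact ((show Commute k a1 from mul_inv_eq_iff_eq_mul.1 hz').pow_right i).eq
    refine hg ⟨b, hb, ?_⟩
    rw [map_mul, show QuotientGroup.mk' (center G) k = 1 from
      (QuotientGroup.eq_one_iff k).2 (hfix k hk hkA), one_mul]

end H1.PR
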