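import Cfsg.Agent.H1.Pair.Even

/-!
# Systems with class-two property are `q`-by-`p`

Induction on the group order: quotients by normal `q`-subgroups and by central subgroups keep the
hypothesis.
-/

set_option autoImplicit false
set_option linter.unusedSectionVars false
set_option linter.unusedVariables false

open scoped commutatorElement
open Subgroup H8.PF

namespace H1.PR

universe u

variable {G : Type u} [Group G] [Finite G] {p q : ℕ} {D : Set (Subgroup G)}

theorem map_cnj {G' : Type*} [Group G'] (f : G →* G') (g : G) (A : Subgroup G) :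
    (cnj g A).map f = cnj (f g) (A.map f) := by
  show (A.map (MulAut.conj g).toMonoidHom).map f = (A.map f).map (MulAut.conj (f g)).toMonoidHom
  rw [map_map, map_map]
  congr 1
  ext x
  simp

theorem map_centralizer_le {G' : Type*} [Group G'] (f : G →* G') (A : Subgroup G) :
    (centralizer (A : Set G)).map f ≤ centralizer (A.map f : Set G') := by
  rintro _ ⟨x, hx, rfl⟩
  rw [mem_centralizer_iff]
  rintro _ ⟨a, ha, rfl⟩
  rw [← map_mul, ← map_mul, mem_centralizer_iff.1 hx a ha]

theorem PSys.restrict (S : PSys p q D) (W : Subgroup G) :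
    PSys p q {B : Subgroup W | B.map W.subtype ∈ D} := by
  have hinj := W.subtype_injective
  refine { hp := S.hp, hq := S.hq, hne := S.hne, hp2 := S.hp2, hq2 := S.hq2, card := ?_, inv := ?_, pair := ?_, ncomm := ?_, closed := ?_, two := ?_ }
  · intro A hA
    rw [← card_map_of_injective hinj, S.card _ hA]
  · intro A hA g
    show (cnj g A).map W.subtype ∈ D
    rw [map_cnj]
    exact S.inv _ hA _
  · intro A hA B hB hne
    obtain ⟨K, hK⟩ := S.pair _ hA _ hB fun h => hne (map_injective hinj h)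
    have hKW : K ≤ W := (le_sup_right.trans hK.sup_eq.ge).trans
      (sup_le (map_subtype_le A) (map_subtype_le B))
    refine ⟨K.subgroupOf W, hK.isp.of_equiv (subgroupOfEquivOfLe hKW).symm,
      fun a ha k hk => mem_subgroupOf.2 (hK.norm _ ⟨a, ha, rfl⟩ _ (mem_subgroupOf.1 hk)), ?_⟩
    apply map_injective hinj
    rw [Subgroup.map_sup, Subgroup.map_sup, map_subgroupOf_eq_of_le hKW]
    exact hK.sup_eq
  · intro A hA B hB hne
    obtain ⟨a, ⟨a', ha', rfl⟩, b, ⟨b', hb', rfl⟩, h⟩ :=
      S.ncomm _ hA _ hB fun h => hne (map_injective hinj h)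
    exact ⟨a', ha', b', hb', fun e => h (by rw [← map_mul, ← map_mul, e])⟩
  · intro A hA B hB C hC E hE h1 h2 h3 h4
    apply map_injective hinj
    rw [Subgroup.map_sup, Subgroup.map_sup]
    refine S.closed _ hA _ hB _ hC _ hE (fun h => h1 (map_injective hinj h))
      (fun h => h2 (map_injective hinj h)) ?_ ?_
    · rw [← Subgroup.map_sup]; exact map_mono h3
    · rw [← Subgroup.map_sup]; exact map_mono h4
  · intro A hA Q hQ hn
    have h := S.two _ hA (Q.map W.subtype) (hQ.map _)
      ((map_mono hn).trans (le_normalizer_map W.subtype))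
    rw [← map_commutator, ← map_commutator] at h
    intro x hx
    rw [mem_centralizer_iff]
    intro a ha
    exact hinj (by
      rw [map_mul, map_mul]
      exact mem_centralizer_iff.1 (h (mem_map_of_mem _ hx)) _ ⟨a, ha, rfl⟩)

theorem isPGroup_of_forall_prime {q : ℕ} {H : Type*} [Group H] [Finite H]
    (h : ∀ r : ℕ, r.Prime → r ∣ Nat.card H → r = q) : IsPGroup q H :=
  IsPGroup.of_card (Nat.eq_prime_pow_of_unique_prime_dvd Nat.card_pos.ne'
    fun {d} hd hdvd => h d hd hdvd)

/-- Lifting a `q`-subgroup of a quotient by a normal `q`-subgroup or a central subgroup. -/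
theorem exists_lift (hq : q.Prime) {N : Subgroup G} [N.Normal]
    (hN : IsPGroup q N ∨ N ≤ center G) {Qb : Subgroup (G ⧸ N)} (hQb : IsPGroup q Qb) :
    ∃ Q : Subgroup G, IsPGroup q Q ∧ Q.map (QuotientGroup.mk' N) = Qb ∧
      normalizer ((Qb.comap (QuotientGroup.mk' N) : Subgroup G) : Set G) ≤
        normalizer (Q : Set G) := by
  have := Fact.mk hq
  set P := Qb.comap (QuotientGroup.mk' N) with hP
  have hmapP : P.map (QuotientGroup.mk' N) = Qb :=
    map_comap_eq_self_of_surjective (QuotientGroup.mk'_surjective N) Qb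
  rcases hN with hNq | hNc
  · refine ⟨P, hQb.comap_of_ker_isPGroup _ ?_, hmapP, le_rfl⟩
    rwa [QuotientGroup.ker_mk']
  · let f : P →* Qb :=
      ((QuotientGroup.mk' N).comp P.subtype).codRestrict Qb fun x => x.2
    have hf : Function.Surjective f := by
      rintro ⟨y, hy⟩
      obtain ⟨x, rfl⟩ := QuotientGroup.mk'_surjective N y
      exact ⟨⟨x, hy⟩, rfl⟩
    have : Group.IsNilpotent Qb := hQb.isNilpotent
    have hnil : Group.IsNilpotent P := Subgroup.isNilpotent_of_ker_le_center f fun x hx => by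
      have h1 : QuotientGroup.mk' N (x : G) = 1 := congrArg Subtype.val hx
      have h2 : (x : G) ∈ center G := hNc ((QuotientGroup.eq_one_iff _).1 h1)
      exact mem_center_iff.2 fun y => Subtype.ext (mem_center_iff.1 h2 y)
    obtain ⟨T⟩ := (inferInstance : Nonempty (Sylow q P))
    have hTn : (T : Subgroup P).Normal :=
      Sylow.normal_of_normalizerCondition Group.normalizerCondition_of_isNilpotent T
    have hTc := T.characteristic_of_normal hTn
    have hTtop : (T : Subgroup P).map f = ⊤ := by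
      rw [← index_eq_one]
      by_contra hne
      obtain ⟨k, hk⟩ := IsPGroup.iff_card.1 hQb
      have h1 : ((T : Subgroup P).map f).index ∣ q ^ k := hk ▸ index_dvd_card _
      obtain ⟨j, -, hj⟩ := (Nat.dvd_prime_pow hq).1 h1
      have hj0 : j ≠ 0 := by rintro rfl; exact hne (by rw [hj, pow_zero])
      exact T.not_dvd_index (((hj ▸ dvd_pow_self q hj0) : q ∣ _).trans (index_map_dvd _ hf))
    refine ⟨(T : Subgroup P).map P.subtype, T.2.map _, ?_, ?_⟩
    · calc ((T : Subgroup P).map P.subtype).map (QuotientGroup.mk' N)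
          = ((T : Subgroup P).map f).map Qb.subtype := by rw [map_map, map_map]; rfl
        _ = Qb := by rw [hTtop, ← MonoidHom.range_eq_map, range_subtype]
    · intro g hg
      let e : P ≃* P :=
        ((MulAut.conj g).subgroupMap P).trans (MulEquiv.subgroupCongr (by
          exact cnj_eq_of_mem_normalizer hg))
      refine mem_normalizer_of_map_le ?_
      rintro _ ⟨x, hx, rfl⟩
      refine ⟨e x, ?_, rfl⟩
      have := (characteristic_iff_map_eq.1 hTc e)
      exact this ▸ mem_map_of_mem e.toMonoidHom hx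

theorem PSys.quotient (S : PSys p q D) (h2 : ∀ A ∈ D, ∃ B ∈ D, B ≠ A) {N : Subgroup G} [N.Normal]
    (hN : IsPGroup q N ∨ N ≤ center G) :
    PSys p q (Subgroup.map (QuotientGroup.mk' N) '' D) := by
  set π := QuotientGroup.mk' N with hπ
  have := Fact.mk S.hp
  have hAN : ∀ A ∈ D, ∀ a ∈ A, a ∈ N → a = 1 := by
    intro A hA a ha haN
    rcases hN with hNq | hNc
    · exact S.eq_one_of_qel hA ha (qel_of_mem hNq haN)
    · by_contra ha1
      obtain ⟨B, hB, hBA⟩ := h2 A hA
      obtain ⟨a', ha', b, hb, hne⟩ := S.ncomm A hA B hB hBA.symm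
      obtain ⟨i, rfl⟩ := S.exists_pow hA ha ha1 ha'
      exact hne (mem_center_iff.1 (pow_mem (hNc haN) i) b).symm
  have hcard : ∀ A ∈ D, Nat.card ↥(A.map π) = p := by
    intro A hA
    rw [← S.card A hA]
    refine (Nat.card_congr (Equiv.ofBijective (fun a : A => (⟨π a, mem_map_of_mem π a.2⟩ : A.map π))
      ⟨fun a b h => ?_, ?_⟩)).symm
    · have h1 : π a = π b := congrArg Subtype.val h
      have h2 : (a : G)⁻¹ * b ∈ N := QuotientGroup.eq.1 h1
      exact Subtype.ext (inv_mul_eq_one.1 (hAN A hA _ (A.mul_mem (A.inv_mem a.2) b.2) h2))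
    · rintro ⟨_, a, ha, rfl⟩
      exact ⟨⟨a, ha⟩, rfl⟩
  have hPre : Pre p q (Subgroup.map π '' D) := by
    refine { hp := S.hp, hq := S.hq, hne := S.hne, hp2 := S.hp2, hq2 := S.hq2, card := ?_, inv := ?_, pair := ?_, ncomm := ?_ }
    · rintro _ ⟨A, hA, rfl⟩; exact hcard A hA
    · rintro _ ⟨A, hA, rfl⟩ g
      obtain ⟨g, rfl⟩ := QuotientGroup.mk'_surjective N g
      exact ⟨cnj g A, S.inv A hA g, map_cnj π g A⟩
    · rintro _ ⟨A, hA, rfl⟩ _ ⟨B, hB, rfl⟩ hne
      obtain ⟨K, hK⟩ := S.pair A hA B hB fun h => hne (h ▸ rfl)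
      refine ⟨K.map π, hK.isp.map _, ?_, ?_⟩
      · rintro _ ⟨a, ha, rfl⟩ _ ⟨k, hk, rfl⟩
        exact ⟨_, hK.norm a ha k hk, by simp⟩
      · rw [← Subgroup.map_sup, ← Subgroup.map_sup, hK.sup_eq]
    · rintro _ ⟨A, hA, rfl⟩ _ ⟨B, hB, rfl⟩ hne
      by_contra hall
      push Not at hall
      obtain ⟨X, hX, -, l, hl, hlB⟩ := S.pair_sys hA hB fun h => hne (h ▸ rfl)
      obtain ⟨a, ha, ha1⟩ := S.exists_ne_one hA
      have hb : l * a * l⁻¹ ∈ B := hlB ▸ conj_mem_cnj ha
      have hcm : Commute (π (l * a * l⁻¹)) (π a)⁻¹ :=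
        (Commute.inv_left (show Commute (π a) (π (l * a * l⁻¹)) from
          hall _ (mem_map_of_mem π ha) _ (mem_map_of_mem π hb))).symm
      have h1 : (π (l * a * l⁻¹) * (π a)⁻¹) ^ p = 1 := by
        rw [hcm.mul_pow, inv_pow, ← map_pow, ← map_pow, S.pow_p hB hb, S.pow_p hA ha]
        simp
      have h2 : QEl q (π (l * a * l⁻¹) * (π a)⁻¹) := by
        rw [← map_inv, ← map_mul]
        refine qel_of_mem (hX.isp.map π) (mem_map_of_mem π ?_)
        have := commutator_mem_commutator hl ha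
        rw [hX.eq, commutatorElement_def] at this
        exact this
      have h3 := mul_inv_eq_one.1 (h2.eq_one S.hp S.hq S.hne h1)
      refine hne ?_
      have hb1 : l * a * l⁻¹ ≠ 1 := fun h => ha1 (conj_eq_one_iff.1 h)
      rw [← S.zpowers_eq hA ha ha1, ← S.zpowers_eq hB hb hb1, MonoidHom.map_zpowers,
        MonoidHom.map_zpowers, h3]
  refine { toPre := hPre, closed := ?_, two := ?_ }
  · rintro _ ⟨A, hA, rfl⟩ _ ⟨B, hB, rfl⟩ C hC E hE hAB hCE hCle hEle
    have hAB' : A ≠ B := fun h => hAB (h ▸ rfl)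
    obtain ⟨X, hX, hsup, -⟩ := S.pair_sys hA hB hAB'
    have hmap : A.map π ⊔ B.map π = A.map π ⊔ X.map π := by
      rw [← Subgroup.map_sup, ← Subgroup.map_sup, hsup]
    have hKer : IsKer q (A.map π) (B.map π) (X.map π) := by
      refine ⟨hX.isp.map _, ?_, hmap⟩
      rintro _ ⟨a, ha, rfl⟩ _ ⟨k, hk, rfl⟩
      exact ⟨a * k * a⁻¹, (conj_mem_iff (hX.norm ha) k).2 hk, by simp⟩
    have lift : ∀ C ∈ Subgroup.map π '' D, C ≤ A.map π ⊔ B.map π →
        ∃ C' ∈ D, C' ≤ A ⊔ B ∧ C'.map π = C := by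
      intro C hC hle
      obtain ⟨_, ⟨x, hx, rfl⟩, hk⟩ :=
        hPre.ker_conj_member ⟨A, hA, rfl⟩ hKer hC (hle.trans hmap.le)
      exact ⟨cnj x A, S.inv A hA x, hsup.symm ▸ S.member_le hx, by rw [map_cnj, hk]⟩
    obtain ⟨C', hC', hC'le, rfl⟩ := lift C hC hCle
    obtain ⟨E', hE', hE'le, rfl⟩ := lift E hE hEle
    rw [← Subgroup.map_sup, ← Subgroup.map_sup,
      S.closed A hA B hB C' hC' E' hE' hAB' (fun h => hCE (h ▸ rfl)) hC'le hE'le]
  · rintro _ ⟨A, hA, rfl⟩ Qb hQb hn
    obtain ⟨Q, hQ, hQmap, hQn⟩ := exists_lift S.hq hN hQb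
    have hAQ : A ≤ normalizer (Q : Set G) := by
      refine fun a ha => hQn (mem_normalizer_iff.2 fun x => ?_)
      rw [mem_comap, mem_comap, map_mul, map_mul, map_inv]
      exact mem_normalizer_iff.1 (hn (mem_map_of_mem π ha)) _
    rw [← hQmap, ← map_commutator, ← map_commutator]
    exact (map_mono (S.two A hA Q hQ hAQ)).trans (map_centralizer_le π A)

/-- The kernel of a system of generation. -/
theorem exists_kernel : ∀ (n : ℕ) (G : Type u) [Group G] [Finite G] (D : Set (Subgroup G)),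
    Nat.card G ≤ n → PSys p q D → sSup D = ⊤ → ∀ A ∈ D,
      ∃ Q : Subgroup G, Q.Normal ∧ IsPGroup q Q ∧ Q ⊔ A = ⊤ := by
  intro n
  induction n with
  | zero => intro G _ _ D h; exact absurd (Nat.card_pos (α := G)) (by omega)
  | succ n ih =>
  intro G _ _ D hn S htop A hA
  by_cases htwo : ∀ A ∈ D, ∃ B ∈ D, B ≠ A
  swap
  · push Not at htwo
    obtain ⟨A', hA', hall⟩ := htwo
    refine ⟨⊥, inferInstance, IsPGroup.of_bot, ?_⟩
    rw [bot_sup_eq, ← top_le_iff, ← htop, sSup_le_iff]
    exact fun B hB => ((hall B hB).trans (hall A hA).symm).le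
  have quot : ∀ (N : Subgroup G) [N.Normal], N ≠ ⊥ → IsPGroup q N ∨ N ≤ center G →
      ∃ Q : Subgroup G, Q.Normal ∧ IsPGroup q Q ∧ Q ⊔ A = ⊤ := by
    intro N _ hNb hN
    have hlt : Nat.card (G ⧸ N) < Nat.card G := by
      rw [card_eq_card_quotient_mul_card_subgroup N]
      have : Nontrivial N := (nontrivial_iff_ne_bot N).2 hNb
      exact lt_mul_of_one_lt_right Nat.card_pos Finite.one_lt_card
    have hmaptop : (⊤ : Subgroup G).map (QuotientGroup.mk' N) = ⊤ :=
      map_top_of_surjective _ (QuotientGroup.mk'_surjective N)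
    have htop' : sSup (Subgroup.map (QuotientGroup.mk' N) '' D) = ⊤ := by
      rw [← top_le_iff, ← hmaptop, ← htop, map_le_iff_le_comap, sSup_le_iff]
      exact fun B hB => map_le_iff_le_comap.1 (le_sSup ⟨B, hB, rfl⟩)
    obtain ⟨Qb, hQbn, hQbq, hQbt⟩ :=
      ih (G ⧸ N) _ (by omega) (S.quotient htwo hN) htop' _ ⟨A, hA, rfl⟩
    obtain ⟨Q, hQ, hQmap, hQn⟩ := exists_lift S.hq hN hQbq
    have hQnormal : Q.Normal := by
      have := hQbn.comap (QuotientGroup.mk' N)
      rw [← normalizer_eq_top_iff, ← top_le_iff]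
      exact (normalizer_eq_top_iff.2 this).ge.trans hQn
    have hQA : Q ⊔ A ⊔ N = ⊤ := by
      have h := congrArg (Subgroup.comap (QuotientGroup.mk' N)) hQbt
      rw [← hQmap, ← Subgroup.map_sup, comap_map_eq, QuotientGroup.ker_mk', comap_top] at h
      exact h
    rcases hN with hNq | hNc
    · have : (Q ⊔ N).Normal := inferInstance
      exact ⟨Q ⊔ N, this, hQ.to_sup_of_normal_right hNq, by rw [sup_right_comm]; exact hQA⟩
    · refine ⟨Q, hQnormal, hQ, ?_⟩
      have hnorm : (⊤ : Subgroup G) ≤ normalizer ((Q ⊔ A : Subgroup G) : Set G) := by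
        rw [← hQA]
        refine sup_le le_normalizer fun z hz => mem_normalizer_of_map_le fun x hx => ?_
        rw [← mem_center_iff.1 (hNc hz) x, mul_inv_cancel_right]
        exact hx
      rw [← top_le_iff, ← htop, sSup_le_iff]
      intro B hB
      obtain ⟨g, rfl⟩ := S.transitive hA hB
      exact (cnj_mono le_sup_right).trans (cnj_eq_of_mem_normalizer (hnorm (mem_top g))).le
  by_cases hzq : IsPGroup q (center G)
  swap
  · obtain ⟨r, hr, hrd, hrq⟩ : ∃ r : ℕ, r.Prime ∧ r ∣ Nat.card (center G) ∧ r ≠ q := by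
      by_contra hno
      push Not at hno
      exact hzq (isPGroup_of_forall_prime hno)
    have := Fact.mk hr
    obtain ⟨P⟩ := (inferInstance : Nonempty (Sylow r (center G)))
    set N := (P : Subgroup (center G)).map (center G).subtype with hNdef
    have hNc : N ≤ center G := map_subtype_le _
    have hNn : N.Normal := ⟨fun x hx g => by
      rw [mem_center_iff.1 (hNc hx) g, mul_inv_cancel_right]; exact hx⟩
    refine quot N ?_ (Or.inr hNc)
    rw [Ne, map_eq_bot_iff_of_injective _ (center G).subtype_injective]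
    exact P.ne_bot_of_dvd_card hrd
  by_cases hcore : ∀ N : Subgroup G, N.Normal → IsPGroup q N → N ≤ center G
  swap
  · push Not at hcore
    obtain ⟨N, hNn, hNq, hNc⟩ := hcore
    exact quot N (fun h => hNc (h ▸ bot_le)) (Or.inl hNq)
  exfalso
  have hS : Ctx p q D := by
    refine { toPSys := S, top := htop, two_members := htwo, zq := hzq, core := hcore, proper := ?_ }
    intro H hH A' hA' hA'H
    set W := sSup {B ∈ D | B ≤ H} with hW
    have hWH : W ≤ H := sSup_le fun B hB => hB.2
    have hA'W : A' ≤ W := le_sSup (show A' ∈ {B ∈ D | B ≤ H} from ⟨hA', hA'H⟩)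
    have hlt : Nat.card W < Nat.card G := by
      refine lt_of_le_of_ne (card_le_card_group W) fun h => hH ?_
      exact top_le_iff.1 ((eq_top_of_card_eq W h).ge.trans hWH)
    have hA'm : (A'.subgroupOf W).map W.subtype = A' := map_subgroupOf_eq_of_le hA'W
    have htopW : sSup {B : Subgroup W | B.map W.subtype ∈ D} = ⊤ := by
      apply map_injective W.subtype_injective
      rw [← MonoidHom.range_eq_map, range_subtype]
      refine le_antisymm (map_subtype_le _) ?_
      conv_lhs => rw [hW]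
      refine sSup_le fun B hB => ?_
      have hBW : B ≤ W := le_sSup hB
      calc B = (B.subgroupOf W).map W.subtype := (map_subgroupOf_eq_of_le hBW).symm
        _ ≤ _ := map_mono (le_sSup (show (B.subgroupOf W).map W.subtype ∈ D by
          rw [map_subgroupOf_eq_of_le hBW]; exact hB.1))
    obtain ⟨Q, hQn, hQq, hQt⟩ := ih W _ (by omega) (S.restrict W) htopW (A'.subgroupOf W)
      (show (A'.subgroupOf W).map W.subtype ∈ D by rw [hA'm]; exact hA')
    set Q' := Q.map W.subtype with hQ'
    have hA'Q : A' ≤ normalizer (Q' : Set G) := by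
      intro a ha
      refine mem_normalizer_of_map_le ?_
      rintro _ ⟨x, hx, rfl⟩
      exact ⟨⟨a, hA'W ha⟩ * x * ⟨a, hA'W ha⟩⁻¹, hQn.conj_mem x hx _, by simp⟩
    have hWeq : A' ⊔ Q' = W := by
      rw [sup_comm, hQ', ← hA'm, ← Subgroup.map_sup, hQt, ← MonoidHom.range_eq_map, range_subtype]
    have hQ'q : IsPGroup q Q' := hQq.map _
    refine ⟨⁅Q', A'⁆, S.sys_commutator hA' hQ'q hA'Q, ?_, fun C hC hCH => ?_⟩
    · refine sup_le hA'H ((H1.commutator_le_left_of_le_normalizer hA'Q).trans ?_)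
      exact (le_sup_right.trans hWeq.le).trans hWH
    · have hK : IsKer q A' Q' Q' :=
        ⟨hQ'q, fun a ha k hk => (conj_mem_iff (hA'Q ha) k).2 hk, rfl⟩
      have hCW : C ≤ A' ⊔ Q' := hWeq.symm ▸ le_sSup (show C ∈ {B ∈ D | B ≤ H} from ⟨hC, hCH⟩)
      obtain ⟨k, hk, rfl⟩ := S.ker_conj_member hA' hK hC hCW
      obtain ⟨l, hl, c, hc, rfl⟩ := S.factor hA' hQ'q hA'Q hk
      rw [← cnj_cnj, cnj_eq_of_commute hc.2]
      exact S.member_le hl
  rcases Nat.even_or_odd (Nat.card G) with he | ho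
  · have := Fact.mk Nat.prime_two
    obtain ⟨t, ht⟩ := exists_prime_orderOf_dvd_card' (G := G) 2 he.two_dvd
    exact hS.even_false ht
  · have h1 : (⊤ : Subgroup G) ≤ center G :=
      hS.odd_normal_central _ ⊤ le_rfl inferInstance (by rwa [card_top])
    exact hS.centralizer_member_not_top hA (le_top.trans h1)

end H1.PR
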