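import Cfsg.Agent.H8.PairFrob.Transfer
import Cfsg.Agent.H1.CoprimeAction
import Cfsg.Agent.H83.CoprimeAbelian
import Mathlib.GroupTheory.Nilpotent

/-!
# Systems inside groups generated by subgroups of order `p` with `q`-by-`p` pairs

A system at a member `A` is a `q`-subgroup `L` normalised by `A` with `⁅L, A⁆ = L`; its members are
the `L`-conjugates of `A`.  The standing hypothesis is that systems have class at most two with
derived subgroup centralised by `A`.
-/

set_option autoImplicit false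
set_option linter.unusedSectionVars false
set_option linter.unusedVariables false

open scoped commutatorElement
open Subgroup H8.PF

namespace H1.PR

universe u

variable {G : Type u} [Group G]

/-- The hypothesis: closed pairs and class two for systems. -/
structure PSys (p q : ℕ) (D : Set (Subgroup G)) : Prop extends Sys p q D where
  two : ∀ A ∈ D, ∀ Q : Subgroup G, IsPGroup q Q → A ≤ normalizer (Q : Set G) →
    ⁅⁅Q, A⁆, ⁅Q, A⁆⁆ ≤ centralizer (A : Set G)

/-- A system at `A`. -/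
structure IsSys (q : ℕ) (A L : Subgroup G) : Prop where
  isp : IsPGroup q L
  norm : A ≤ normalizer (L : Set G)
  eq : ⁅L, A⁆ = L

theorem conj_mem_iff {L : Subgroup G} {g : G} (hg : g ∈ normalizer (L : Set G)) (x : G) :
    g * x * g⁻¹ ∈ L ↔ x ∈ L := (mem_normalizer_iff.1 hg x).symm

theorem mem_normalizer_of_map_le [Finite G] {L : Subgroup G} {g : G}
    (h : ∀ x ∈ L, g * x * g⁻¹ ∈ L) : g ∈ normalizer (L : Set G) := by
  have hle : L.map (MulAut.conj g).toMonoidHom ≤ L := by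
    rintro _ ⟨x, hx, rfl⟩
    exact h x hx
  have he : L.map (MulAut.conj g).toMonoidHom = L := by
    refine eq_of_le_of_card_ge hle (le_of_eq ?_)
    exact (Nat.card_congr (L.equivMapOfInjective _ (MulEquiv.injective _)).toEquiv)
  rw [mem_normalizer_iff]
  intro x
  refine ⟨h x, fun hx => ?_⟩
  obtain ⟨y, hy, hyx⟩ := he.symm ▸ hx
  simp only [MulEquiv.coe_toMonoidHom, MulAut.conj_apply] at hyx
  rwa [← mul_left_cancel (mul_right_cancel hyx)]

theorem isPGroup_cnj {q : ℕ} {L : Subgroup G} (h : IsPGroup q L) (g : G) : IsPGroup q (cnj g L) :=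
  h.map _

theorem le_normalizer_cnj {A L : Subgroup G} (h : A ≤ normalizer (L : Set G)) (g : G) :
    cnj g A ≤ normalizer (cnj g L : Set G) := by
  rintro _ ⟨a, ha, rfl⟩
  rw [mem_normalizer_iff]
  intro x
  simp only [mem_cnj, MulEquiv.coe_toMonoidHom, MulAut.conj_apply]
  have h1 := mem_normalizer_iff.1 (h ha) (g⁻¹ * x * g)
  rw [h1]
  group

theorem cnj_sup (g : G) (A B : Subgroup G) : cnj g (A ⊔ B) = cnj g A ⊔ cnj g B :=
  map_sup A B _

theorem cnj_mono {g : G} {A B : Subgroup G} (h : A ≤ B) : cnj g A ≤ cnj g B := map_mono h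

theorem cnj_commutator (g : G) (A B : Subgroup G) : cnj g ⁅A, B⁆ = ⁅cnj g A, cnj g B⁆ :=
  map_commutator A B _

theorem cnj_eq_of_mem_normalizer {A : Subgroup G} {g : G} (h : g ∈ normalizer (A : Set G)) :
    cnj g A = A := mem_normalizer_cnj.1 h

theorem card_cnj (g : G) (A : Subgroup G) : Nat.card ↥(cnj g A) = Nat.card ↥A :=
  (Nat.card_congr (A.equivMapOfInjective _ (MulEquiv.injective _)).toEquiv).symm

theorem cnj_eq_of_commute {A : Subgroup G} {g : G} (h : g ∈ centralizer (A : Set G)) :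
    cnj g A = A := by
  ext x
  rw [mem_cnj]
  have key : ∀ y ∈ A, g⁻¹ * y * g = y ∧ g * y * g⁻¹ = y := fun y hy => by
    have h1 := mem_centralizer_iff.1 h y hy
    refine ⟨?_, ?_⟩
    · rw [mul_assoc, h1, inv_mul_cancel_left]
    · rw [← h1, mul_inv_cancel_right]
  constructor
  · intro hx
    have h2 := (key _ hx).2
    rw [show g * (g⁻¹ * x * g) * g⁻¹ = x by group] at h2
    rw [h2]; exact hx
  · intro hx
    rw [(key x hx).1]; exact hx

variable [Finite G] {p q : ℕ} {D : Set (Subgroup G)}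

theorem sup_le_normalizer {A L : Subgroup G} (h : A ≤ normalizer (L : Set G)) :
    A ⊔ L ≤ normalizer (L : Set G) := sup_le h le_normalizer

namespace PSys

variable (S : PSys p q D)
include S

theorem isPGroup_member {A : Subgroup G} (hA : A ∈ D) : IsPGroup p A :=
  IsPGroup.of_card (n := 1) (by rw [S.card A hA, pow_one])

theorem coprime_member {A Q : Subgroup G} (hA : A ∈ D) (hQ : IsPGroup q Q) :
    (Nat.card A).Coprime (Nat.card Q) := by
  have := Fact.mk S.hq
  obtain ⟨k, hk⟩ := IsPGroup.iff_card.1 hQ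
  rw [S.card A hA, hk]
  exact Nat.Coprime.pow_right k ((Nat.coprime_primes S.hp S.hq).2 S.hne)

theorem member_solvable {A : Subgroup G} (hA : A ∈ D) : Group.IsSolvable A := by
  have := Fact.mk S.hp
  have : Group.IsNilpotent A := (S.isPGroup_member hA).isNilpotent
  infer_instance

theorem member_comm {A : Subgroup G} (hA : A ∈ D) {a b : G} (ha : a ∈ A) (hb : b ∈ A) :
    a * b = b * a := by
  obtain ⟨a0, ha0, ha01⟩ := S.exists_ne_one hA
  obtain ⟨i, rfl⟩ := S.exists_pow hA ha0 ha01 ha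
  obtain ⟨j, rfl⟩ := S.exists_pow hA ha0 ha01 hb
  exact (Commute.pow_pow rfl i j).eq

/-- A normalised `q`-group gives a system. -/
theorem sys_commutator {A Q : Subgroup G} (hA : A ∈ D) (hQ : IsPGroup q Q)
    (hAQ : A ≤ normalizer (Q : Set G)) : IsSys q A ⁅Q, A⁆ where
  isp := hQ.to_le (H1.commutator_le_left_of_le_normalizer hAQ)
  norm := H1.right_le_normalizer_commutator
  eq := H1.commutator_commutator_eq hAQ (S.coprime_member hA hQ) (Or.inl (S.member_solvable hA))

theorem factor {A Q : Subgroup G} (hA : A ∈ D) (hQ : IsPGroup q Q)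
    (hAQ : A ≤ normalizer (Q : Set G)) {x : G} (hx : x ∈ Q) :
    ∃ l ∈ ⁅Q, A⁆, ∃ c ∈ Q ⊓ centralizer (A : Set G), x = l * c := by
  rw [← H1.commutator_sup_centralizer_eq hAQ (S.coprime_member hA hQ)
    (Or.inl (S.member_solvable hA))] at hx
  have hle : Q ⊓ centralizer (A : Set G) ≤ normalizer (⁅Q, A⁆ : Subgroup G) :=
    inf_le_left.trans H1.left_le_normalizer_commutator
  rw [← SetLike.mem_coe, coe_mul_of_right_le_normalizer_left _ _ hle] at hx
  obtain ⟨l, hl, c, hc, rfl⟩ := hx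
  exact ⟨l, hl, c, hc, rfl⟩

theorem derived_centralizes {A L : Subgroup G} (hA : A ∈ D) (hL : IsSys q A L) :
    ⁅L, L⁆ ≤ centralizer (A : Set G) := by
  have := S.two A hA L hL.isp hL.norm
  rwa [hL.eq] at this

theorem derived_central {A L : Subgroup G} (hA : A ∈ D) (hL : IsSys q A L) :
    ⁅L, L⁆ ≤ centralizer (L : Set G) := by
  have hU : ⁅L, L⁆ ≤ centralizer (A : Set G) := S.derived_centralizes hA hL
  have h1 : ⁅⁅A, ⁅L, L⁆⁆, L⁆ = ⊥ := by
    rw [commutator_eq_bot_iff_le_centralizer.2 (le_centralizer_iff.1 hU), commutator_bot_left]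
  have h2 : ⁅⁅⁅L, L⁆, L⁆, A⁆ = ⊥ := by
    rw [commutator_eq_bot_iff_le_centralizer]
    exact (commutator_mono (commutator_le_self L) le_rfl).trans hU
  have h3 := commutator_commutator_eq_bot_of_rotate h1 h2
  rw [hL.eq, commutator_eq_bot_iff_le_centralizer] at h3
  exact le_centralizer_iff.1 h3

theorem comm_derived_left {A L : Subgroup G} (hA : A ∈ D) (hL : IsSys q A L) {u a : G}
    (hu : u ∈ ⁅L, L⁆) (ha : a ∈ A) : u * a = a * u :=
  (mem_centralizer_iff.1 (S.derived_centralizes hA hL hu) a ha).symm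

theorem comm_derived {A L : Subgroup G} (hA : A ∈ D) (hL : IsSys q A L) {u l : G}
    (hu : u ∈ ⁅L, L⁆) (hl : l ∈ L) : u * l = l * u :=
  (mem_centralizer_iff.1 (S.derived_central hA hL hu) l hl).symm

theorem comm_left {A L : Subgroup G} (hA : A ∈ D) (hL : IsSys q A L) {x y z : G} (hx : x ∈ L)
    (hy : y ∈ L) (hz : z ∈ L) : ⁅x * y, z⁆ = ⁅x, z⁆ * ⁅y, z⁆ := by
  have h1 : ⁅y, z⁆ ∈ ⁅L, L⁆ := commutator_mem_commutator hy hz
  have h2 : ⁅x, z⁆ ∈ ⁅L, L⁆ := commutator_mem_commutator hx hz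
  have c1 := S.comm_derived hA hL h1 hx
  have c2 := S.comm_derived hA hL h2 ((commutator_le_self L) h1)
  calc ⁅x * y, z⁆ = x * ⁅y, z⁆ * x⁻¹ * ⁅x, z⁆ := by simp only [commutatorElement_def]; group
    _ = ⁅y, z⁆ * ⁅x, z⁆ := by rw [← c1, mul_inv_cancel_right]
    _ = ⁅x, z⁆ * ⁅y, z⁆ := c2.symm

theorem isKer {A L : Subgroup G} (hL : IsSys q A L) : IsKer q A L L where
  isp := hL.isp
  norm a ha k hk := (conj_mem_iff (hL.norm ha) k).2 hk
  sup_eq := rfl

theorem qel_mem {A L : Subgroup G} (hA : A ∈ D) (hL : IsSys q A L) {x : G} (hx : x ∈ A ⊔ L)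
    (hq : QEl q x) : x ∈ L :=
  S.ker_qel_mem hA (S.isKer hL) hx hq

theorem le_of_le_sup {A L K : Subgroup G} (hA : A ∈ D) (hL : IsSys q A L) (hK : IsPGroup q K)
    (hle : K ≤ A ⊔ L) : K ≤ L :=
  fun x hx => S.qel_mem hA hL (hle hx) (qel_of_mem hK hx)

theorem member_le {A L : Subgroup G} {l : G} (hl : l ∈ L) : cnj l A ≤ A ⊔ L := by
  intro x hx
  rw [mem_cnj] at hx
  rw [show x = l * (l⁻¹ * x * l) * l⁻¹ by group]
  exact mul_mem (mul_mem (mem_sup_right hl) (mem_sup_left hx)) (inv_mem (mem_sup_right hl))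

theorem member_iff {A L C : Subgroup G} (hA : A ∈ D) (hL : IsSys q A L) (hC : C ∈ D)
    (hle : C ≤ A ⊔ L) : ∃ l ∈ L, C = cnj l A :=
  S.ker_conj_member hA (S.isKer hL) hC hle

/-- A system contains the kernel part of every commutator with a member-conjugate it controls. -/
theorem le_of_members {A L X : Subgroup G} (hA : A ∈ D) (hL : IsSys q A L) (hX : IsSys q A X)
    (h : ∀ x ∈ X, cnj x A ≤ A ⊔ L) : X ≤ L := by
  rw [← hX.eq, commutator_le]
  intro x hx a ha
  refine S.qel_mem hA hL ?_ (qel_of_mem hX.isp ?_)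
  · rw [commutatorElement_def]
    exact mul_mem (h x hx (conj_mem_cnj ha)) (inv_mem (mem_sup_left ha))
  · exact hX.eq ▸ commutator_mem_commutator hx ha

theorem fixed_mem_derived {A L : Subgroup G} (hA : A ∈ D) (hL : IsSys q A L) {x : G} (hx : x ∈ L)
    (hfix : x ∈ centralizer (A : Set G)) : x ∈ ⁅L, L⁆ := by
  have hn : L ≤ normalizer (⁅L, L⁆ : Subgroup G) := H1.left_le_normalizer_commutator
  have hAn : A ≤ normalizer (⁅L, L⁆ : Subgroup G) :=
    le_trans (fun a ha => mem_normalizer_of_map_le fun u hu => by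
      rw [← S.comm_derived_left hA hL hu ha, mul_inv_cancel_right]; exact hu) le_rfl
  refine H83.fixed_mem_of_commutator hL.norm hn hAn (commutator_le_self L) le_rfl
    (S.coprime_member hA hL.isp) (by rw [hL.eq]; exact mem_sup_left hx) fun a ha => ?_
  rw [mem_centralizer_iff.1 hfix a ha, mul_inv_cancel_right, mul_inv_cancel]
  exact one_mem _

theorem fixed_member_mem_derived {A L : Subgroup G} (hA : A ∈ D) (hL : IsSys q A L) {x : G}
    (hx : x ∈ L) (hfix : cnj x A = A) : x ∈ ⁅L, L⁆ := by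
  refine S.fixed_mem_derived hA hL hx ?_
  rw [mem_centralizer_iff]
  exact fun a ha => S.ker_centralizes hA (S.isKer hL) hx hfix ha

/-- A system is a system at each of its members. -/
theorem sys_transfer {A L C : Subgroup G} (hA : A ∈ D) (hL : IsSys q A L) (hC : C ∈ D)
    (hle : C ≤ A ⊔ L) : IsSys q C L ∧ C ⊔ L = A ⊔ L := by
  obtain ⟨l, hl, rfl⟩ := S.member_iff hA hL hC hle
  have hlL : cnj l L = L := cnj_eq_of_mem_normalizer (le_normalizer hl)
  refine ⟨⟨hL.isp, hlL ▸ le_normalizer_cnj hL.norm l, ?_⟩, ?_⟩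
  · conv_lhs => rw [← hlL]
    rw [← cnj_commutator, hL.eq, hlL]
  · conv_lhs => rw [← hlL]
    rw [← cnj_sup]
    exact cnj_eq_of_mem_normalizer (le_normalizer (mem_sup_right hl))

theorem sys_cnj {A L : Subgroup G} (hL : IsSys q A L) (g : G) : IsSys q (cnj g A) (cnj g L) where
  isp := isPGroup_cnj hL.isp g
  norm := le_normalizer_cnj hL.norm g
  eq := by rw [← cnj_commutator, hL.eq]

theorem sys_ne_bot {A L C : Subgroup G} (hA : A ∈ D) (hC : C ∈ D) (hL : IsSys q A L)
    (hle : C ≤ A ⊔ L) (hne : C ≠ A) : L ≠ ⊥ := by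
  rintro rfl
  obtain ⟨l, hl, rfl⟩ := S.member_iff hA hL hC hle
  rw [mem_bot] at hl
  exact hne (by rw [hl, cnj_one])

/-- The system of a pair. -/
theorem pair_sys {A B : Subgroup G} (hA : A ∈ D) (hB : B ∈ D) (h : A ≠ B) :
    ∃ X : Subgroup G, IsSys q A X ∧ A ⊔ B = A ⊔ X ∧ ∃ l ∈ X, B = cnj l A := by
  obtain ⟨K, hK⟩ := S.pair A hA B hB h
  have hAK : A ≤ normalizer (K : Set G) := fun a ha => mem_normalizer_of_map_le (hK.norm a ha)
  obtain ⟨k, hk, hkB⟩ := S.ker_conj_member hA hK hB (hK.sup_eq ▸ le_sup_right)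
  obtain ⟨l, hl, c, hc, rfl⟩ := S.factor hA hK.isp hAK hk
  have hBl : B = cnj l A := by
    rw [hkB, ← cnj_cnj, cnj_eq_of_commute hc.2]
  refine ⟨⁅K, A⁆, S.sys_commutator hA hK.isp hAK, le_antisymm ?_ ?_, l, hl, hBl⟩
  · exact sup_le le_sup_left (hBl ▸ member_le S hl)
  · refine sup_le le_sup_left ?_
    exact (H1.commutator_le_left_of_le_normalizer hAK).trans (hK.sup_eq.symm ▸ le_sup_right)

/-- If two members in a pair are fixed by an element, then so are all. -/
theorem pair_closed {A B C E : Subgroup G} (hA : A ∈ D) (hB : B ∈ D) (hC : C ∈ D) (hE : E ∈ D)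
    (h : A ≠ B) (hCE : C ≠ E) (hCle : C ≤ A ⊔ B) (hEle : E ≤ A ⊔ B) : C ⊔ E = A ⊔ B :=
  S.closed A hA B hB C hC E hE h hCE hCle hEle

end PSys

end H1.PR
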